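import Cfsg.Agent.FiveAutOrbits.Frob
import Cfsg.Agent.FourAutOrbits.Main
import Cfsg.Agent.SpecFive.Local

/-!
Groups in which the element orders are `1, 2, p, q, 2p`, one automorphism orbit for each.
-/

set_option autoImplicit false
set_option linter.style.haveILetI false
set_option linter.unusedSectionVars false

namespace CfsgLib.FiveAut

open Subgroup

variable {G : Type*} [Group G]

/-- Element orders `1, 2, p, q, 2p`, each forming one automorphism orbit. -/
structure TwoP (G : Type*) [Group G] (p q : ℕ) : Prop where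
  pp : p.Prime
  qq : q.Prime
  p2 : p ≠ 2
  q2 : q ≠ 2
  pq : p ≠ q
  ord : ∀ g : G, orderOf g = 1 ∨ orderOf g = 2 ∨ orderOf g = p ∨ orderOf g = q ∨ orderOf g = 2 * p
  conj : ∀ x y : G, orderOf x = orderOf y → ∃ a : MulAut G, a x = y
  has2p : ∃ g : G, orderOf g = 2 * p

namespace TwoP

variable {p q : ℕ} (h : TwoP G p q)
include h

theorem odd_p : p % 2 = 1 := (h.pp.eq_two_or_odd).resolve_left h.p2
theorem odd_q : q % 2 = 1 := (h.qq.eq_two_or_odd).resolve_left h.q2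

theorem sq_eq_one_of_pow {x : G} {k : ℕ} (hx : x ^ 2 ^ k = 1) : x * x = 1 := by
  obtain ⟨j, -, hj⟩ := (Nat.dvd_prime_pow Nat.prime_two).1 (orderOf_dvd_of_pow_eq_one hx)
  have hp := h.odd_p
  have hq := h.odd_q
  have key : j ≤ 1 → x * x = 1 := fun hj1 => by
    rw [← pow_two]
    exact orderOf_dvd_iff_pow_eq_one.1 (hj ▸ pow_dvd_pow 2 hj1 |>.trans (by norm_num))
  refine key (Nat.le_of_not_lt fun hlt => ?_)
  have h4 : 4 ∣ orderOf x := hj ▸ (pow_dvd_pow 2 hlt : 2 ^ 2 ∣ 2 ^ j)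
  rcases h.ord x with e | e | e | e | e <;> rw [e] at h4 <;> omega

theorem pow_prime_eq_one {x : G} {r k : ℕ} (hr : r = p ∨ r = q) (hx : x ^ r ^ k = 1) : x ^ r = 1 := by
  have hrp : r.Prime := by rcases hr with rfl | rfl; exacts [h.pp, h.qq]
  obtain ⟨j, -, hj⟩ := (Nat.dvd_prime_pow hrp).1 (orderOf_dvd_of_pow_eq_one hx)
  refine orderOf_dvd_iff_pow_eq_one.1 ?_
  rcases Nat.lt_or_ge j 2 with hj2 | hj2
  · rw [hj]; exact (pow_dvd_pow r (Nat.le_of_lt_succ hj2)).trans (by rw [pow_one])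
  exfalso
  have h4 : r * r ∣ orderOf x := hj ▸ pow_two r ▸ pow_dvd_pow r hj2
  have hle : ∀ n, n.Prime → ¬ r * r ∣ n := fun n hn hd => by
    obtain rfl := (Nat.prime_dvd_prime_iff_eq hrp hn).1 ((dvd_mul_right r r).trans hd)
    have := Nat.le_of_dvd hn.pos hd
    nlinarith [hrp.two_le]
  rcases h.ord x with e | e | e | e | e <;> rw [e] at h4
  · exact hrp.ne_one (Nat.eq_one_of_mul_eq_one_right (Nat.dvd_one.1 h4))
  · exact hle 2 Nat.prime_two h4
  · exact hle p h.pp h4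
  · exact hle q h.qq h4
  · rcases hr with rfl | rfl
    · exact h.p2 ((Nat.prime_dvd_prime_iff_eq hrp Nat.prime_two).1
        ((Nat.mul_dvd_mul_iff_right hrp.pos).1 h4))
    · rcases (hrp.dvd_mul).1 ((dvd_mul_right r r).trans h4) with e | e
      · exact h.q2 ((Nat.prime_dvd_prime_iff_eq hrp Nat.prime_two).1 e)
      · exact h.pq ((Nat.prime_dvd_prime_iff_eq hrp h.pp).1 e).symm

theorem pow_all (g : G) : g ^ (2 * (p * q)) = 1 := by
  refine orderOf_dvd_iff_pow_eq_one.1 ?_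
  rcases h.ord g with e | e | e | e | e <;> rw [e]
  exacts [one_dvd _, dvd_mul_right _ _, (dvd_mul_right p q).mul_left 2, (dvd_mul_left q p).mul_left 2,
    mul_dvd_mul_left 2 (dvd_mul_right p q)]

theorem pow_two_or_odd {g : G} (hg : ¬ 2 ∣ orderOf g) : g ^ (p * q) = 1 := by
  refine orderOf_dvd_iff_pow_eq_one.1 ?_
  rcases h.ord g with e | e | e | e | e <;> rw [e] at hg ⊢
  exacts [one_dvd _, absurd dvd_rfl hg, dvd_mul_right _ _, dvd_mul_left _ _,
    absurd (dvd_mul_right 2 p) hg]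

/-- Only `q`-elements centralise an element of order `q`. -/
theorem pow_q_of_commute {x y : G} (hy : orderOf y = q) (hc : Commute x y) : x ^ q = 1 := by
  by_cases hx : x = 1
  · rw [hx, one_pow]
  rw [← orderOf_dvd_iff_pow_eq_one]
  by_contra hd
  have hcop : (orderOf x).Coprime q := ((h.qq.coprime_iff_not_dvd).2 fun hq => by
    rcases h.ord x with e | e | e | e | e <;> rw [e] at hq hd
    · exact h.qq.not_dvd_one hq
    · exact h.q2 ((Nat.prime_dvd_prime_iff_eq h.qq Nat.prime_two).1 hq)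
    · exact h.pq ((Nat.prime_dvd_prime_iff_eq h.qq h.pp).1 hq).symm
    · exact hd dvd_rfl
    · rcases h.qq.dvd_mul.1 hq with e | e
      · exact h.q2 ((Nat.prime_dvd_prime_iff_eq h.qq Nat.prime_two).1 e)
      · exact h.pq ((Nat.prime_dvd_prime_iff_eq h.qq h.pp).1 e).symm).symm
  have hm := hc.orderOf_mul_eq_mul_orderOf_of_coprime (hy.symm ▸ hcop)
  rw [hy] at hm
  have hx1 : orderOf x ≠ 1 := fun e => hx (orderOf_eq_one_iff.1 e)
  have := h.qq.two_le
  rcases h.ord (x * y) with e | e | e | e | e <;> rw [e] at hm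
  · exact hx1 (Nat.eq_one_of_mul_eq_one_right hm.symm)
  · exact Nat.not_prime_mul hx1 h.qq.ne_one (hm ▸ Nat.prime_two)
  · exact Nat.not_prime_mul hx1 h.qq.ne_one (hm ▸ h.pp)
  · exact Nat.not_prime_mul hx1 h.qq.ne_one (hm ▸ h.qq)
  · rcases h.qq.dvd_mul.1 (hm.symm ▸ dvd_mul_left q _) with e | e
    · exact h.q2 ((Nat.prime_dvd_prime_iff_eq h.qq Nat.prime_two).1 e)
    · exact h.pq ((Nat.prime_dvd_prime_iff_eq h.qq h.pp).1 e).symm

/-- No element of order two or `p` commutes with one of order `q`. -/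
theorem eq_one_of_commute_q {x y : G} (hy : orderOf y = q) (hc : Commute x y)
    (hx : x * x = 1 ∨ x ^ p = 1) : x = 1 := by
  have hq := h.pow_q_of_commute hy hc
  rcases hx with hx | hx
  · rw [← pow_two] at hx
    simpa [(Nat.coprime_primes Nat.prime_two h.qq).2 h.q2.symm] using pow_gcd_eq_one.2 ⟨hx, hq⟩
  · simpa [(Nat.coprime_primes h.pp h.qq).2 h.pq] using pow_gcd_eq_one.2 ⟨hx, hq⟩

/-- A centraliser of an element of order two or `p` has exponent dividing `2p`. -/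
theorem pow_two_p_of_commute {g c : G} (hg : g * g = 1 ∨ g ^ p = 1) (hg1 : g ≠ 1)
    (hc : Commute g c) : c ^ (2 * p) = 1 := by
  refine orderOf_dvd_iff_pow_eq_one.1 ?_
  rcases h.ord c with e | e | e | e | e
  · rw [e]; exact one_dvd _
  · rw [e]; exact dvd_mul_right _ _
  · rw [e]; exact dvd_mul_left _ _
  · exact absurd (h.eq_one_of_commute_q e hc hg) hg1
  · rw [e]

theorem ne_one_of_two {t : G} (ht : orderOf t = 2) : t ≠ 1 := fun e => by
  rw [e, orderOf_one] at ht; omega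

theorem mul_self_of_two {t : G} (ht : orderOf t = 2) : t * t = 1 := by
  rw [← pow_two, ← ht, pow_orderOf_eq_one]

theorem orderOf_eq_two {t : G} (ht : t * t = 1) (h1 : t ≠ 1) : orderOf t = 2 :=
  orderOf_eq_prime (by rw [pow_two, ht]) h1

theorem orderOf_eq_p {x : G} (hx : x ^ p = 1) (h1 : x ≠ 1) : orderOf x = p :=
  haveI := Fact.mk h.pp
  orderOf_eq_prime hx h1

/-- An element of the centraliser of an involution or a `p`-element splits. -/
theorem split {c : G} (hc : c ^ (2 * p) = 1) :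
    (c ^ p) * (c ^ p) = 1 ∧ (c ^ (p + 1)) ^ p = 1 ∧ c = c ^ p * c ^ (p + 1) := by
  refine ⟨?_, ?_, ?_⟩
  · rw [← pow_add, ← two_mul, hc]
  · obtain ⟨m, hm⟩ : 2 ∣ p + 1 := by have := h.odd_p; omega
    rw [← pow_mul, hm, show 2 * m * p = 2 * p * m by ring, pow_mul, hc, one_pow]
  · rw [← pow_add, show p + (p + 1) = 2 * p + 1 by ring, pow_succ, hc, one_mul]

/-- A commuting pair of orders `2, p` exists. -/
theorem exists_pair : ∃ t x : G, orderOf t = 2 ∧ orderOf x = p ∧ Commute t x := by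
  obtain ⟨g, hg⟩ := h.has2p
  refine ⟨g ^ p, g ^ 2, ?_, ?_, (Commute.refl g).pow_pow _ _⟩
  · rw [orderOf_pow_of_dvd h.pp.ne_zero (hg ▸ dvd_mul_left _ _), hg, Nat.mul_div_cancel _ h.pp.pos]
  · rw [orderOf_pow_of_dvd two_ne_zero (hg ▸ dvd_mul_right _ _), hg,
      Nat.mul_div_cancel_left _ two_pos]

/-- Commuting pairs of orders `2, p` form one orbit. -/
theorem pair_conj {t x t' x' : G} (ht : orderOf t = 2) (hx : orderOf x = p) (hc : Commute t x)
    (ht' : orderOf t' = 2) (hx' : orderOf x' = p) (hc' : Commute t' x') :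
    ∃ a : MulAut G, a t = t' ∧ a x = x' := by
  have hcop : (2 : ℕ).Coprime p := (Nat.coprime_primes Nat.prime_two h.pp).2 h.p2.symm
  have ho : ∀ {t x : G}, orderOf t = 2 → orderOf x = p → Commute t x →
      orderOf (t * x) = 2 * p ∧ (t * x) ^ p = t ∧ (t * x) ^ (p + 1) = x := fun {t x} ht hx hc => by
    have e1 : t ^ p = t := by
      rw [pow_eq_pow_mod p (show t ^ 2 = 1 by rw [pow_two, h.mul_self_of_two ht]), h.odd_p, pow_one]
    have e2 : x ^ p = 1 := hx ▸ pow_orderOf_eq_one x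
    refine ⟨?_, ?_, ?_⟩
    · rw [hc.orderOf_mul_eq_mul_orderOf_of_coprime (ht.symm ▸ hx.symm ▸ hcop), ht, hx]
    · rw [hc.mul_pow, e1, e2, mul_one]
    · rw [hc.mul_pow, pow_succ, e1, h.mul_self_of_two ht, pow_succ, e2, one_mul, one_mul]
  obtain ⟨o1, a1, b1⟩ := ho ht hx hc
  obtain ⟨o2, a2, b2⟩ := ho ht' hx' hc'
  obtain ⟨a, ha⟩ := h.conj (t * x) (t' * x') (o1.trans o2.symm)
  exact ⟨a, by rw [← a1, map_pow, ha, a2], by rw [← b1, map_pow, ha, b2]⟩

theorem exists_p_commute {t : G} (ht : orderOf t = 2) : ∃ x : G, orderOf x = p ∧ Commute t x := by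
  obtain ⟨t', x, ht', hx, hc⟩ := h.exists_pair
  obtain ⟨a, rfl⟩ := h.conj t' t (ht'.trans ht.symm)
  exact ⟨a x, by rw [MulEquiv.orderOf_eq, hx], hc.map a⟩

theorem exists_invol_commute {z : G} (hz : orderOf z = p) : ∃ t : G, orderOf t = 2 ∧ Commute t z := by
  obtain ⟨t, x, ht, hx, hc⟩ := h.exists_pair
  obtain ⟨a, rfl⟩ := h.conj x z (hx.trans hz.symm)
  exact ⟨a t, by rw [MulEquiv.orderOf_eq, ht], hc.map a⟩

theorem pow_two_p_of_commute_two {t c : G} (ht : orderOf t = 2) (hc : Commute t c) :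
    c ^ (2 * p) = 1 := h.pow_two_p_of_commute (Or.inl (h.mul_self_of_two ht)) (h.ne_one_of_two ht) hc

variable [Finite G]

/-- Subgroups whose elements of prime order have one of two orders are solvable. -/
theorem isSolvable_of_pow {X : Type*} [Group X] [Finite X] {r s : ℕ} (hr : r.Prime) (hs : s.Prime)
    (hX : ∀ g : X, g ^ (r * s) = 1) : Group.IsSolvable X := by
  by_contra hns
  have h3 := CfsgLib.FourAutOrbits.three_le_primeFactors hns
  have hsub : (Nat.card X).primeFactors ⊆ {r, s} := fun l hl => by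
    haveI := Fact.mk (Nat.prime_of_mem_primeFactors hl)
    obtain ⟨g, hg⟩ := exists_prime_orderOf_dvd_card' l (Nat.dvd_of_mem_primeFactors hl)
    have hd := hg ▸ orderOf_dvd_of_pow_eq_one (hX g)
    rcases ((Fact.out : l.Prime).dvd_mul).1 hd with e | e
    · simp [(Nat.prime_dvd_prime_iff_eq Fact.out hr).1 e]
    · simp [(Nat.prime_dvd_prime_iff_eq Fact.out hs).1 e]
  exact absurd (h3.trans ((Finset.card_le_card hsub).trans Finset.card_le_two)) (by norm_num)

/-- An involution normalising a subgroup of even order centralises an involution of it. -/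
theorem exists_invol_fixed {C : Subgroup G} {s : G} (hs : s * s = 1)
    (hN : s ∈ normalizer (C : Set G)) (hev : 2 ∣ Nat.card C) :
    ∃ u ∈ C, orderOf u = 2 ∧ Commute s u := by
  classical
  haveI := Fintype.ofFinite C
  haveI : Fact (Nat.Prime 2) := ⟨Nat.prime_two⟩
  let σ : Equiv.Perm C := (C.normalizerMonoidHom ⟨s, hN⟩).toEquiv
  have hσ : σ ^ 2 ^ 1 = 1 := by
    ext c
    show s * (s * c * s⁻¹) * s⁻¹ = c
    rw [inv_eq_of_mul_eq_one_left hs]
    calc s * (s * c * s) * s = (s * s) * c * (s * s) := by group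
      _ = c := by rw [hs, one_mul, mul_one]
  let F : Subgroup G := C ⊓ centralizer ({s} : Set G)
  have hF : Nat.card F = σ.supportᶜ.card := by
    rw [← Nat.card_eq_finsetCard]
    refine Nat.card_congr
      { toFun := fun f => ⟨⟨f, f.2.1⟩, ?_⟩
        invFun := fun c => ⟨c.1, c.1.2, ?_⟩
        left_inv := fun f => rfl
        right_inv := fun c => rfl }
    · simp only [Finset.mem_compl, Equiv.Perm.mem_support, not_not]
      refine Subtype.ext ?_
      show s * f * s⁻¹ = f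
      rw [← mem_centralizer_singleton_iff.1 f.2.2, mul_inv_cancel_right]
    · have hc := c.2
      simp only [Finset.mem_compl, Equiv.Perm.mem_support, not_not] at hc
      exact mem_centralizer_singleton_iff.2
        (mul_inv_eq_iff_eq_mul.1 (show s * (c.1 : G) * s⁻¹ = c.1 from congrArg Subtype.val hc)).symm
  have h2 : 2 ∣ Nat.card F := by
    rw [hF]
    refine ((Equiv.Perm.card_compl_support_modEq hσ).dvd_iff dvd_rfl).2 ?_
    rwa [← Nat.card_eq_fintype_card]
  obtain ⟨u, hu⟩ := exists_prime_orderOf_dvd_card' 2 h2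
  exact ⟨u, u.2.1, by rw [Subgroup.orderOf_coe, hu],
    (mem_centralizer_singleton_iff.1 u.2.2).symm⟩

/-- A normal `r`-layer above `L` in `K`, when `K` has exponent dividing `pq` over `L`. -/
theorem exists_layer {K L : Subgroup G} (hLK : L ≤ K) (hnorm : K ≤ normalizer (L : Set G))
    {x : G} (hxK : x ∈ K) (hxL : x ∉ L) (hpq : ∀ g ∈ K, g ^ (p * q) ∈ L) :
    ∃ (r : ℕ) (N : Subgroup G), (r = p ∨ r = q) ∧ L ≤ N ∧ N ≤ K ∧ K ≤ normalizer (N : Set G) ∧
      (∀ g ∈ N, g ^ r ∈ L) ∧ ∃ g ∈ N, g ∉ L := by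
  haveI : (L.subgroupOf K).Normal := (normal_subgroupOf_iff_le_normalizer hLK).2 hnorm
  have hX : ∀ g : K ⧸ L.subgroupOf K, g ^ (p * q) = 1 := by
    intro g
    obtain ⟨g, rfl⟩ := QuotientGroup.mk'_surjective _ g
    rw [← map_pow]
    exact (QuotientGroup.eq_one_iff _).2 (hpq g g.2)
  haveI := h.isSolvable_of_pow h.pp h.qq hX
  haveI : Nontrivial (K ⧸ L.subgroupOf K) :=
    ⟨⟨QuotientGroup.mk ⟨x, hxK⟩, 1, fun e => hxL ((QuotientGroup.eq_one_iff (⟨x, hxK⟩ : K)).1 e)⟩⟩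
  obtain ⟨r, A, hr, hA, hA1, hAr⟩ := CfsgLib.SpecFive.exists_normal_prime_exp (G := K ⧸ L.subgroupOf K)
  haveI := Fact.mk hr
  obtain ⟨a, ha, ha1⟩ := A.bot_or_exists_ne_one.resolve_left hA1
  have hrpq : r = p ∨ r = q := by
    obtain ⟨k, hk⟩ := IsPGroup.iff_orderOf.1 hAr ⟨a, ha⟩
    rw [Subgroup.orderOf_mk] at hk
    have hk0 : k ≠ 0 := fun e => ha1 (orderOf_eq_one_iff.1 (by rw [hk, e, pow_zero]))
    have hd : r ∣ p * q := (dvd_pow_self r hk0).trans (hk ▸ orderOf_dvd_of_pow_eq_one (hX a))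
    rcases hr.dvd_mul.1 hd with e | e
    · exact Or.inl ((Nat.prime_dvd_prime_iff_eq hr h.pp).1 e)
    · exact Or.inr ((Nat.prime_dvd_prime_iff_eq hr h.qq).1 e)
  refine ⟨r, (A.comap (QuotientGroup.mk' _)).map K.subtype, hrpq, ?_, map_subtype_le _, ?_, ?_, ?_⟩
  · intro l hl
    refine ⟨⟨l, hLK hl⟩, ?_, rfl⟩
    show QuotientGroup.mk' _ _ ∈ A
    rw [show QuotientGroup.mk' (L.subgroupOf K) ⟨l, hLK hl⟩ = 1 from (QuotientGroup.eq_one_iff _).2 hl]
    exact A.one_mem
  · refine (normal_subgroupOf_iff_le_normalizer (map_subtype_le _)).1 ?_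
    rw [subgroupOf, comap_map_eq_self_of_injective K.subtype_injective]
    exact hA.comap _
  · rintro _ ⟨g, hg, rfl⟩
    obtain ⟨k, hk⟩ := hAr ⟨_, hg⟩
    have hk' : QuotientGroup.mk' (L.subgroupOf K) g ^ r ^ k = 1 := congrArg Subtype.val hk
    have hd : QuotientGroup.mk' (L.subgroupOf K) g ^ r = 1 := by
      have hcop : Nat.gcd (r ^ k) (p * q) ∣ r := by
        obtain ⟨j, -, hj⟩ := (Nat.dvd_prime_pow hr).1 (Nat.gcd_dvd_left (r ^ k) (p * q))
        rw [hj]
        rcases Nat.lt_or_ge j 2 with hj2 | hj2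
        · exact (pow_dvd_pow r (Nat.le_of_lt_succ hj2)).trans (by rw [pow_one])
        exfalso
        have h4 : r * r ∣ p * q := pow_two r ▸ (pow_dvd_pow r hj2).trans (hj ▸ Nat.gcd_dvd_right _ _)
        rcases hrpq with rfl | rfl
        · exact h.pq ((Nat.prime_dvd_prime_iff_eq hr h.qq).1 ((Nat.mul_dvd_mul_iff_left hr.pos).1 h4))
        · exact h.pq ((Nat.prime_dvd_prime_iff_eq hr h.pp).1 ((Nat.mul_dvd_mul_iff_right hr.pos).1 h4)).symm
      exact orderOf_dvd_iff_pow_eq_one.1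
        ((orderOf_dvd_of_pow_eq_one (pow_gcd_eq_one.2 ⟨hk', hX _⟩)).trans hcop)
    rw [← map_pow] at hd
    rw [K.subtype_apply, ← SubgroupClass.coe_pow]
    exact mem_subgroupOf.1 ((QuotientGroup.eq_one_iff (g ^ r : K)).1 hd)
  · obtain ⟨g, rfl⟩ := QuotientGroup.mk'_surjective _ a
    exact ⟨g, ⟨g, ha, rfl⟩, fun hg => ha1 ((QuotientGroup.eq_one_iff _).2 hg)⟩

/-- Frattini argument: an element of prime order `r ≠ l` outside `N` can be replaced by one
normalising a given Sylow `l`-subgroup of `N`. -/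
theorem exists_in_normalizer {K N : Subgroup G} (hNK : N ≤ K) (hn : K ≤ normalizer (N : Set G))
    {l : ℕ} [Fact l.Prime] (Y : Sylow l N) {r : ℕ} (hr : r = p ∨ r = q) {x : G} (hxK : x ∈ K)
    (hxN : x ∉ N) (hx : x ^ r = 1) :
    ∃ m ∈ K, m ∉ N ∧ orderOf m = r ∧
      m ∈ normalizer ((Y : Subgroup N).map N.subtype : Set G) := by
  haveI : (N.subgroupOf K).Normal := (normal_subgroupOf_iff_le_normalizer hNK).2 hn
  let φ : N ≃* N := N.normalizerMonoidHom ⟨x, hn hxK⟩
  obtain ⟨n, hn'⟩ := MulAction.exists_smul_eq N Y (Y.mapSurjective (f := φ.toMonoidHom) φ.surjective)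
  set a : K := ⟨(n : G)⁻¹ * x, mul_mem (inv_mem (hNK n.2)) hxK⟩ with ha
  have hm : (a : G) ∈ normalizer ((Y : Subgroup N).map N.subtype : Set G) := by
    haveI := Fintype.ofFinite ((Y : Subgroup N).map N.subtype : Subgroup G)
    refine Subgroup.mem_normalizer_fintype ?_
    rintro _ ⟨y, hy, rfl⟩
    have h1 : φ y ∈ ((n • Y : Sylow l N) : Subgroup N) := by
      rw [hn']
      exact ⟨y, hy, rfl⟩
    rw [Sylow.coe_subgroup_smul, Subgroup.mem_pointwise_smul_iff_inv_smul_mem] at h1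
    refine ⟨_, h1, ?_⟩
    show (((MulAut.conj n)⁻¹ • φ y : N) : G) = (n : G)⁻¹ * x * y * ((n : G)⁻¹ * x)⁻¹
    have hφ : (φ y : G) = x * y * x⁻¹ := rfl
    simp only [MulAut.smul_def, MulAut.conj_inv_apply, Subgroup.coe_mul, Subgroup.coe_inv, hφ]
    group
  have haN : ∀ k, x ^ k ∈ N ↔ (a : G) ^ k ∈ N := fun k => by
    have e1 : QuotientGroup.mk' (N.subgroupOf K) ⟨x, hxK⟩ = QuotientGroup.mk' _ a := by
      rw [show (⟨x, hxK⟩ : K) = ⟨n, hNK n.2⟩ * a from Subtype.ext (by simp [ha]), map_mul,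
        show QuotientGroup.mk' (N.subgroupOf K) ⟨n, hNK n.2⟩ = 1 from
          (QuotientGroup.eq_one_iff _).2 n.2, one_mul]
    have h1 : QuotientGroup.mk' (N.subgroupOf K) (⟨x, hxK⟩ ^ k) =
        QuotientGroup.mk' (N.subgroupOf K) (a ^ k) := by rw [map_pow, map_pow, e1]
    have h2 : ∀ g : K, QuotientGroup.mk' (N.subgroupOf K) g = 1 ↔ (g : G) ∈ N := fun g =>
      QuotientGroup.eq_one_iff g
    have h3 := h2 (⟨x, hxK⟩ ^ k)
    rw [h1, h2] at h3
    simpa using h3.symm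
  have hrp : r.Prime := by rcases hr with rfl | rfl; exacts [h.pp, h.qq]
  -- `r` divides the order of `a`
  have hdvd : r ∣ orderOf (a : G) := by
    by_contra hnd
    have h1 : x ^ orderOf (a : G) ∈ N := (haN _).2 (by rw [pow_orderOf_eq_one]; exact N.one_mem)
    obtain ⟨j, -, hj⟩ := Nat.exists_mul_mod_eq_one_of_coprime
      (hrp.coprime_iff_not_dvd.2 hnd).symm hrp.one_lt
    refine hxN ?_
    have h2 := pow_mem h1 j
    rwa [← pow_mul, pow_eq_pow_mod _ hx, hj, pow_one] at h2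
  refine ⟨(a : G) ^ (orderOf (a : G) / r), pow_mem a.2 _, ?_, ?_, pow_mem hm _⟩
  · intro hmem
    have h1 : x ^ (orderOf (a : G) / r) ∈ N := (haN _).2 hmem
    have hnd : ¬ r ∣ orderOf (a : G) / r := fun hd => by
      have hrr : r * r ∣ orderOf (a : G) := Nat.mul_dvd_of_dvd_div hdvd hd
      have e1 := h.pow_prime_eq_one (x := (a : G) ^ (orderOf (a : G) / (r * r))) (k := 2) hr (by
        rw [← pow_mul, pow_two, Nat.div_mul_cancel hrr, pow_orderOf_eq_one])
      rw [← pow_mul] at e1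
      have h2 := Nat.le_of_dvd (Nat.mul_pos (Nat.div_pos (Nat.le_of_dvd (orderOf_pos _) hrr)
        (Nat.mul_pos hrp.pos hrp.pos)) hrp.pos) (orderOf_dvd_of_pow_eq_one e1)
      have h3 := Nat.div_mul_cancel hrr
      have h4 : 0 < orderOf (a : G) / (r * r) := Nat.div_pos (Nat.le_of_dvd (orderOf_pos _) hrr)
        (Nat.mul_pos hrp.pos hrp.pos)
      have := hrp.two_le
      nlinarith
    obtain ⟨j, -, hj⟩ := Nat.exists_mul_mod_eq_one_of_coprime
      (hrp.coprime_iff_not_dvd.2 hnd).symm hrp.one_lt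
    refine hxN ?_
    have h2 := pow_mem h1 j
    rwa [← pow_mul, pow_eq_pow_mod _ hx, hj, pow_one] at h2
  · rw [orderOf_pow_orderOf_div (orderOf_pos _).ne' hdvd]

end TwoP

end CfsgLib.FiveAut
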