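import Cfsg.Agent.FiveAutOrbits.Split
import Cfsg.Agent.S0508

/-!
The split case reduces to the Brauer–Suzuki–Wall theorem.
-/

set_option autoImplicit false
set_option linter.style.haveILetI false
set_option linter.unusedSectionVars false

namespace CfsgLib.FiveAut.Split

open Subgroup

variable {G : Type*} [Group G] [Finite G] {p q : ℕ} (H : Split G p q)
include H

/-- Sylow `p`-subgroups meet trivially. -/
theorem sylow_ti [Fact p.Prime] (P P' : Sylow p G) (h : (P : Subgroup G) ⊓ P' ≠ ⊥) : P = P' := by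
  classical
  haveI := Fintype.ofFinite (Sylow p G × Sylow p G)
  by_contra hne
  set bad : Finset (Sylow p G × Sylow p G) := Finset.univ.filter
    fun PP => PP.1 ≠ PP.2 ∧ (PP.1 : Subgroup G) ⊓ PP.2 ≠ ⊥ with hbad
  obtain ⟨⟨A, B⟩, hAB, hmax⟩ := bad.exists_max_image
    (fun PP => Nat.card ((PP.1 : Subgroup G) ⊓ PP.2 : Subgroup G)) ⟨(P, P'), by simp [hbad, hne, h]⟩
  simp only [hbad, Finset.mem_filter, Finset.mem_univ, true_and] at hAB
  obtain ⟨hABne, hD1⟩ := hAB
  set D := (A : Subgroup G) ⊓ B with hD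
  obtain ⟨E, hE, hEmem⟩ := H.exists_pCore (A.2.to_le inf_le_left : IsPGroup p D) hD1
  obtain ⟨C, hC⟩ := hE.exists_le_sylow
  have hDC : D ≤ (C : Subgroup G) := fun d hd => hC (hEmem d (le_normalizer hd) (by
    obtain ⟨k, hk⟩ := (A.2.to_le inf_le_left : IsPGroup p D) ⟨d, hd⟩
    exact H.base.pow_prime_eq_one (k := k) (Or.inl rfl) (congrArg Subtype.val hk)))
  have key : ∀ Q : Sylow p G, D ≤ (Q : Subgroup G) → D ≠ Q → C = Q := by
    intro Q hDQ hDne
    haveI : Group.IsNilpotent (Q : Subgroup G) := Q.2.isNilpotent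
    have hlt := Group.normalizerCondition_of_isNilpotent (G := (Q : Subgroup G)) (D.subgroupOf Q)
      (lt_top_iff_ne_top.2 fun e => hDne (le_antisymm hDQ (subgroupOf_eq_top.1 e)))
    obtain ⟨g, hg, hgD⟩ := SetLike.exists_of_lt hlt
    have hgN : (g : G) ∈ normalizer (D : Set G) := by
      haveI := Fintype.ofFinite D
      refine Subgroup.mem_normalizer_fintype fun d hd => ?_
      exact (mem_normalizer_iff.1 hg ⟨d, hDQ hd⟩).1 hd
    have hgC : (g : G) ∈ (C : Subgroup G) := hC (hEmem _ hgN (by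
      obtain ⟨k, hk⟩ := Q.2 g
      exact H.base.pow_prime_eq_one (k := k) (Or.inl rfl) (congrArg Subtype.val hk)))
    by_contra hCQ
    have hlt2 : D < (C : Subgroup G) ⊓ Q := lt_of_le_of_ne (le_inf hDC hDQ) fun e =>
      hgD (show (g : G) ∈ D from e ▸ ⟨hgC, g.2⟩)
    have h2 := hmax (C, Q) (by
      simp only [hbad, Finset.mem_filter, Finset.mem_univ, true_and]
      exact ⟨hCQ, fun e => hD1 (eq_bot_iff.2 (e ▸ hlt2.le))⟩)
    exact hlt2.ne (Subgroup.eq_of_le_of_card_ge hlt2.le h2)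
  have hDA : D ≠ A := fun e => hABne (Sylow.ext (A.is_maximal' B.2 (e ▸ inf_le_right)).symm)
  have hDB : D ≠ B := fun e => hABne (Sylow.ext (B.is_maximal' A.2 (e ▸ inf_le_left)))
  exact hABne ((key A inf_le_left hDA).symm.trans (key B inf_le_right hDB))

theorem sylow_eq [Fact p.Prime] {P P' : Sylow p G} {x : G} (hx : x ∈ (P : Subgroup G))
    (hx' : x ∈ (P' : Subgroup G)) (hx1 : x ≠ 1) : P = P' :=
  H.sylow_ti P P' fun e => hx1 (mem_bot.1 (e ▸ ⟨hx, hx'⟩))

/-- Sylow `p`-subgroups are abelian. -/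
theorem commute_sylow [Fact p.Prime] (P : Sylow p G) {x c : G} (hx : x ∈ (P : Subgroup G))
    (hc : c ∈ (P : Subgroup G)) : Commute x c := by
  by_cases hx1 : x = 1
  · exact hx1 ▸ Commute.one_left c
  have hexp : ∀ d ∈ (P : Subgroup G), d ^ p = 1 := fun d hd => by
    obtain ⟨k, hk⟩ := P.2 ⟨d, hd⟩
    exact H.base.pow_prime_eq_one (k := k) (Or.inl rfl) (congrArg Subtype.val hk)
  haveI : Nontrivial (P : Subgroup G) := ⟨⟨x, hx⟩, 1, fun e => hx1 (congrArg Subtype.val e)⟩
  haveI := P.2.center_nontrivial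
  obtain ⟨z, hz⟩ := exists_ne (1 : center (P : Subgroup G))
  obtain ⟨a, ha⟩ := H.base.conj ((z : (P : Subgroup G)) : G) x
    ((H.base.orderOf_eq_p (hexp _ (z : (P : Subgroup G)).2) fun e => hz (Subtype.ext (Subtype.ext e))).trans
      (H.base.orderOf_eq_p (hexp x hx) hx1).symm)
  have hP2 : (P.mapSurjective (f := a.toMonoidHom) a.surjective) = P :=
    H.sylow_eq ⟨_, (z : (P : Subgroup G)).2, ha⟩ hx hx1
  obtain ⟨c₀, hc₀, rfl⟩ : c ∈ (P : Subgroup G).map a.toMonoidHom := by
    rw [← Sylow.coe_mapSurjective (f := a.toMonoidHom) a.surjective P, hP2]; exact hc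
  rw [← ha]
  exact (show Commute c₀ ((z : (P : Subgroup G)) : G) from
    congrArg Subtype.val (mem_center_iff.1 z.2 ⟨c₀, hc₀⟩)).symm.map a

/-- The split case leads to `PSL₂` over a field of odd order. -/
theorem psl [IsSimpleGroup G] : ∃ (F : Type) (_ : Field F) (_ : Fintype F), Odd (Fintype.card F) ∧
    Nonempty (G ≃* Matrix.ProjectiveSpecialLinearGroup (Fin 2) F) := by
  classical
  haveI := Fact.mk H.base.pp
  haveI : Fact (Nat.Prime 2) := ⟨Nat.prime_two⟩
  obtain ⟨t, s, T, ht, hs, hts, hinv, ⟨x₀, hx₀, hsx₀⟩, htT, hsT, hT4⟩ := H.sylow_data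
  set R := pCent p t with hR
  have hx₀1 : x₀ ≠ 1 := fun e => hsx₀ (e ▸ Commute.one_right s)
  have hRp : IsPGroup p R := fun c => ⟨1, Subtype.ext (by
    rw [pow_one]; exact ((H.mem_iff ht).1 c.2).1)⟩
  obtain ⟨P, hRP⟩ := hRp.exists_le_sylow
  have hPexp : ∀ d ∈ (P : Subgroup G), d ^ p = 1 := fun d hd => by
    obtain ⟨k, hk⟩ := P.2 ⟨d, hd⟩
    exact H.base.pow_prime_eq_one (k := k) (Or.inl rfl) (congrArg Subtype.val hk)
  have hnorm : ∀ g a : G, a ∈ (P : Subgroup G) → a ≠ 1 → g * a * g⁻¹ ∈ (P : Subgroup G) →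
      g ∈ normalizer ((P : Subgroup G) : Set G) := by
    intro g a ha ha1 hga
    have h2 : g • P = P := H.sylow_eq (x := g * a * g⁻¹) (by
      rw [Sylow.coe_subgroup_smul]
      exact Subgroup.smul_mem_pointwise_smul a (MulAut.conj g) _ ha) hga
      fun e => ha1 (conj_eq_one_iff.1 e)
    exact Sylow.smul_eq_iff_mem_normalizer.1 h2
  have hTN : (T : Subgroup G) ≤ normalizer ((P : Subgroup G) : Set G) := fun τ hτ =>
    hnorm τ x₀ (hRP hx₀) hx₀1 (hRP (subset_closure ⟨conj_pow_eq_one ((H.mem_iff ht).1 hx₀).1,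
      commute_conj (H.commute_of_mem_sylow htT hτ) ((H.mem_iff ht).1 hx₀).2⟩))
  have hP1 : (P : Subgroup G) ≠ ⊥ := fun e => hx₀1 (mem_bot.1 (e ▸ hRP hx₀))
  have hTmul : ∀ c ∈ (T : Subgroup G), c * c = 1 := fun c hc => H.mul_self_of_mem_sylow hc
  -- the local subgroup is `P T`
  set K := normalizer ((P : Subgroup G) : Set G) with hK
  have hdec : ∀ g ∈ K, ∃ a ∈ (P : Subgroup G), ∃ τ ∈ (T : Subgroup G), g = a * τ := by
    obtain ⟨E, hE, hEmem⟩ := H.exists_pCore P.2 hP1
    have hEP : E = P := P.is_maximal' hE fun d hd => hEmem d (le_normalizer hd) (hPexp d hd)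
    obtain ⟨T', hT'⟩ := (T.2.of_equiv (subgroupOfEquivOfLe hTN).symm).exists_le_sylow
    have hTT' : (T' : Subgroup K).map K.subtype = T := by
      refine T.is_maximal' (T'.2.map _) ?_
      rw [← map_subgroupOf_eq_of_le hTN]
      exact map_mono hT'
    have hNC : normalizer ((T' : Subgroup K) : Set K) ≤ centralizer ((T' : Subgroup K) : Set K) := by
      intro g hg
      have hgT : (g : G) ∈ normalizer ((T : Subgroup G) : Set G) :=
        hTT' ▸ le_normalizer_map K.subtype ⟨g, hg, rfl⟩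
      refine mem_centralizer_iff.2 fun c hc => Subtype.ext ?_
      exact (H.local_centralizes P.2 hP1 hTN T.2 (fun U hU hTU _ => T.is_maximal' hU hTU) g.2 hgT c
        (hTT' ▸ ⟨c, hc, rfl⟩)).eq
    have hcomp := MonoidHom.ker_transferSylow_isComplement' T' hNC
    set O : Subgroup G := (MonoidHom.transferSylow T' hNC).ker.map K.subtype with hO
    have hOK : O ≤ K := map_subtype_le _
    have hKO : K ≤ normalizer (O : Set G) := by
      refine (normal_subgroupOf_iff_le_normalizer hOK).1 ?_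
      rw [hO, subgroupOf, comap_map_eq_self_of_injective K.subtype_injective]
      exact MonoidHom.normal_ker _
    have hO2 : ¬ 2 ∣ Nat.card O := by
      rw [hO, card_map_of_injective (f := K.subtype) K.subtype_injective]
      exact MonoidHom.not_dvd_card_ker_transferSylow T' hNC
    haveI : IsMulCommutative (T : Subgroup G) :=
      ⟨⟨fun a b => Subtype.ext (H.commute_of_mem_sylow a.2 b.2)⟩⟩
    have hnc : ¬ IsCyclic (T : Subgroup G) := fun hcyc => by
      obtain ⟨g, hg⟩ := hcyc.exists_ofOrder_eq_natCard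
      have := Nat.le_of_dvd two_pos (orderOf_dvd_of_pow_eq_one (show g ^ 2 = 1 from
        Subtype.ext (by rw [SubgroupClass.coe_pow, pow_two]; exact hTmul g g.2)))
      omega
    have hcop : (Nat.card (T : Subgroup G)).Coprime (Nat.card O) := by
      rw [hT4, show 4 = 2 ^ 2 from rfl]
      exact Nat.Coprime.pow_left 2 (Nat.prime_two.coprime_iff_not_dvd.2 hO2)
    have hgen := Cfsg.Agent.S0058.result (T : Subgroup G) O hnc (hTN.trans hKO) hcop
    have hOP : O ≤ P := by
      rw [← hgen]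
      refine iSup₂_le fun a ha c hc => ?_
      obtain ⟨haT, ha1⟩ := ha
      have ha2 := H.base.orderOf_eq_two (hTmul a haT) ha1
      obtain ⟨h1, h2, he⟩ := H.base.split (H.base.pow_two_p_of_commute_two ha2
        (mem_centralizer_singleton_iff.1 hc.2).symm)
      have h3 : c ^ p = 1 := by
        by_contra h3
        exact hO2 ((H.base.orderOf_eq_two h1 h3) ▸ Subgroup.orderOf_mk (c ^ p) (pow_mem hc.1 p) ▸
          orderOf_dvd_natCard _)
      exact hEP ▸ hEmem c (hOK hc.1) h3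
    intro g hg
    obtain ⟨o, ho, τ, hτ, hg'⟩ := Subgroup.mem_sup_of_normal_left.1
      (hcomp.sup_eq_top.symm ▸ mem_top (⟨g, hg⟩ : K))
    exact ⟨o, hOP ⟨o, ho, rfl⟩, τ, hTT' ▸ ⟨τ, hτ, rfl⟩, congrArg Subtype.val hg'.symm⟩
  -- every element of `P` is fixed by an involution of `T`
  have hfix : ∀ w ∈ (P : Subgroup G), w ≠ 1 → ∃ τ ∈ (T : Subgroup G), τ ≠ 1 ∧ Commute τ w := by
    intro w hw hw1
    obtain ⟨i, hi, hiw⟩ := H.base.exists_invol_commute (H.base.orderOf_eq_p (hPexp w hw) hw1)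
    have hiK : i ∈ K := hnorm i w hw hw1 (by rw [hiw.eq, mul_inv_cancel_right]; exact hw)
    obtain ⟨a, ha, τ, hτ, rfl⟩ := hdec i hiK
    refine ⟨τ, hτ, fun e => ?_, ?_⟩
    · rw [e, mul_one] at hi
      exact H.base.ne_one_of_two hi (H.eq_one_of_sq (hPexp a ha) (H.base.mul_self_of_two hi))
    · have := ((H.commute_sylow P ha hw).inv_left).mul_left hiw
      rwa [inv_mul_cancel_left] at this
  have hPR : ∀ w ∈ (P : Subgroup G), Commute t w := by
    intro w hw
    by_contra htw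
    have hw1 : w ≠ 1 := fun e => htw (e ▸ Commute.one_right t)
    obtain ⟨r, hrT, hr1, hrw⟩ := hfix w hw hw1
    have hrt : t ≠ r := fun e => htw (e ▸ hrw)
    have hu1 : x₀ * w ≠ 1 := fun e => by
      rw [eq_inv_of_mul_eq_one_right e] at htw
      exact htw ((H.mem_iff ht).1 hx₀).2.inv_right
    obtain ⟨r', hr'T, hr'1, hr'u⟩ := hfix _ (mul_mem (hRP hx₀) hw) hu1
    have htr' : t ≠ r' := fun e => htw (by
      have := (((H.mem_iff ht).1 hx₀).2.inv_right).mul_right (e ▸ hr'u)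
      rwa [inv_mul_cancel_left] at this)
    have hinvx := H.invert ht (hTmul r' hr'T) hr'1 (H.commute_of_mem_sylow htT hr'T) htr' hx₀
    by_cases hrr : r = r'
    · subst hrr
      have hrx : Commute r x₀ := by
        have := hr'u.mul_right hrw.inv_right
        rwa [mul_inv_cancel_right] at this
      rw [hrx.eq, mul_inv_cancel_right] at hinvx
      exact hx₀1 (H.eq_one_of_sq ((H.mem_iff ht).1 hx₀).1 (eq_inv_iff_mul_eq_one.1 hinvx))
    have hinvw : r' * w * r'⁻¹ = w⁻¹ := H.invert (H.base.orderOf_eq_two (hTmul r hrT) hr1)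
      (hTmul r' hr'T) hr'1 (H.commute_of_mem_sylow hrT hr'T) hrr (subset_closure ⟨hPexp w hw, hrw⟩)
    have h1 : r' * (x₀ * w) * r'⁻¹ = x₀⁻¹ * w⁻¹ := by
      rw [show r' * (x₀ * w) * r'⁻¹ = (r' * x₀ * r'⁻¹) * (r' * w * r'⁻¹) by group, hinvx, hinvw]
    rw [hr'u.eq, mul_inv_cancel_right, ← mul_inv_rev,
      show w * x₀ = x₀ * w from (H.commute_sylow P hw (hRP hx₀)).eq] at h1
    exact hu1 (H.eq_one_of_sq (hPexp _ (mul_mem (hRP hx₀) hw)) (eq_inv_iff_mul_eq_one.1 h1))
  have hPR' : ∀ w ∈ (P : Subgroup G), w ∈ R := fun w hw => subset_closure ⟨hPexp w hw, hPR w hw⟩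
  -- hypotheses of Brauer–Suzuki–Wall
  have hRC : R ≤ centralizer ({t} : Set G) := fun c hc =>
    mem_centralizer_singleton_iff.2 ((H.mem_iff ht).1 hc).2.eq.symm
  have hcore : (Cfsg.oddCore (centralizer ({t} : Set G))).map (centralizer ({t} : Set G)).subtype = R := by
    refine le_antisymm ?_ ?_
    · rintro _ ⟨c, hc, rfl⟩
      have hle : Cfsg.oddCore (centralizer ({t} : Set G)) ≤ R.subgroupOf (centralizer ({t} : Set G)) := by
        refine sSup_le ?_
        rintro N ⟨-, hN⟩ d hd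
        have htd : Commute t (d : G) := (mem_centralizer_singleton_iff.1 d.2).symm
        obtain ⟨h1, h2, he⟩ := H.base.split (H.base.pow_two_p_of_commute_two ht htd)
        refine subset_closure ⟨?_, htd⟩
        by_contra h3
        have h4 : orderOf ((d : G) ^ p) = 2 := H.base.orderOf_eq_two h1 h3
        rw [← SubgroupClass.coe_pow, Subgroup.orderOf_coe, ← Subgroup.orderOf_mk (d ^ p) (pow_mem hd p)] at h4
        have h5 := _root_.orderOf_dvd_natCard (⟨d ^ p, pow_mem hd p⟩ : N)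
        rw [h4] at h5
        exact absurd (Nat.dvd_gcd h5 (dvd_refl 2)) (by rw [hN]; norm_num)
      exact hle hc
    · intro c hc
      have hmem : (R.subgroupOf (centralizer ({t} : Set G))).Normal ∧
          (Nat.card (R.subgroupOf (centralizer ({t} : Set G)))).Coprime 2 := by
        refine ⟨⟨fun d hd g => subset_closure ⟨conj_pow_eq_one ((H.mem_iff ht).1 hd).1,
          commute_conj (mem_centralizer_singleton_iff.1 g.2).symm ((H.mem_iff ht).1 hd).2⟩⟩, ?_⟩
        obtain ⟨k, hk⟩ := IsPGroup.iff_card.1 (hRp.of_equiv (subgroupOfEquivOfLe hRC).symm)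
        rw [hk]
        exact ((Nat.coprime_primes H.base.pp Nat.prime_two).2 H.base.p2).pow_left k
      have hle : R.subgroupOf (centralizer ({t} : Set G)) ≤ Cfsg.oddCore (centralizer ({t} : Set G)) :=
        le_sSup hmem
      exact ⟨⟨c, hRC hc⟩, hle hc, rfl⟩
  have hSC : (T : Subgroup G) ⊓ centralizer (R : Set G) = zpowers t := by
    refine le_antisymm (fun c hc => ?_) (zpowers_le.2 ⟨htT, mem_centralizer_iff.2 fun d hd =>
      ((H.mem_iff ht).1 hd).2.eq.symm⟩)
    by_contra hct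
    have hc1 : c ≠ 1 := fun e => hct (e ▸ one_mem _)
    have h1 := H.invert ht (hTmul c hc.1) hc1 (H.commute_of_mem_sylow htT hc.1)
      (fun e => hct (e ▸ mem_zpowers t)) hx₀
    have h2 : x₀ * c = c * x₀ := mem_centralizer_iff.1 hc.2 x₀ hx₀
    rw [← h2, mul_inv_cancel_right] at h1
    exact hx₀1 (H.eq_one_of_sq ((H.mem_iff ht).1 hx₀).1 (eq_inv_iff_mul_eq_one.1 h1))
  have hklein : IsKleinFour (T : Subgroup G) := by
    haveI : Nontrivial (T : Subgroup G) := Finite.one_lt_card_iff_nontrivial.1 (by omega)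
    refine ⟨hT4, (Monoid.exponent_eq_prime_iff Nat.prime_two).2 fun g hg => ?_⟩
    exact orderOf_eq_prime (Subtype.ext (by rw [SubgroupClass.coe_pow, pow_two]; exact hTmul g g.2)) hg
  refine Cfsg.Agent.S0508.result T 2 le_rfl IsKleinFour.nonempty_mulEquiv t ht htT
    (fun c hc => (H.commute_of_mem_sylow hc htT).eq) R hcore.symm (fun _ => ⟨?_, ?_⟩) ?_ ?_
  · rw [hSC]; infer_instance
  · rw [hSC]
    have h1 := Subgroup.card_mul_index ((zpowers t).subgroupOf (T : Subgroup G))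
    rw [Nat.card_congr (subgroupOfEquivOfLe (zpowers_le.2 htT)).toEquiv, Nat.card_zpowers, ht, hT4] at h1
    show ((zpowers t).subgroupOf (T : Subgroup G)).index = 2
    omega
  · intro c hcT hcR y hy
    refine H.invert ht (hTmul c hcT) (fun e => hcR (e ▸ one_mem _)) (H.commute_of_mem_sylow htT hcT)
      (fun e => hcR (e ▸ mem_centralizer_iff.2 fun d hd => ((H.mem_iff ht).1 hd).2.eq.symm)) hy
  · intro Y hYR hY1 g hg
    obtain ⟨y, hy, hy1⟩ := Y.bot_or_exists_ne_one.resolve_left hY1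
    have hgK : g ∈ K := hnorm g y (hRP (hYR hy)) hy1 (hRP (hYR ((mem_normalizer_iff.1 hg y).1 hy)))
    obtain ⟨a, ha, τ, hτ, rfl⟩ := hdec g hgK
    exact mul_mem (hRC (hPR' a ha))
      (mem_centralizer_singleton_iff.2 (H.commute_of_mem_sylow hτ htT).eq)

end CfsgLib.FiveAut.Split
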