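import Cfsg.Agent.FiveAutOrbits.TI
import Cfsg.Agent.FiveAutOrbits.SplitBSW

/-!
Element orders `1, 2, p, q, 2p`: the split case is the only one.
-/

set_option autoImplicit false
set_option linter.style.haveILetI false
set_option linter.unusedSectionVars false

namespace CfsgLib.FiveAut

open Subgroup

variable {G : Type*} [Group G] [Finite G]

/-- The largest `r`-subgroup normalised by `K` inside `K`. -/
theorem exists_max_normal (r : ℕ) [Fact r.Prime] (K : Subgroup G) :
    ∃ M : Subgroup G, M ≤ K ∧ K ≤ normalizer (M : Set G) ∧ IsPGroup r M ∧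
      (∀ L : Subgroup G, L ≤ K → K ≤ normalizer (L : Set G) → IsPGroup r L → L ≤ M) ∧
      normalizer (K : Set G) ≤ normalizer (M : Set G) := by
  classical
  obtain ⟨M, ⟨hMK, hKM, hM⟩, hmax⟩ := Set.Finite.exists_maximal
    (Set.toFinite {M : Subgroup G | M ≤ K ∧ K ≤ normalizer (M : Set G) ∧ IsPGroup r M})
    ⟨⊥, bot_le, by rw [normalizer_eq_top_iff.2 inferInstance]; exact le_top, IsPGroup.of_bot⟩
  have hle : ∀ L : Subgroup G, L ≤ K → K ≤ normalizer (L : Set G) → IsPGroup r L → L ≤ M := by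
    intro L hLK hKL hL
    refine le_sup_left.trans (hmax (y := L ⊔ M) ⟨sup_le hLK hMK, fun g hg => ?_,
      hL.to_sup_of_normal_right' hM (hLK.trans hKM)⟩ le_sup_right)
    haveI := Fintype.ofFinite (L ⊔ M : Subgroup G)
    refine Subgroup.mem_normalizer_fintype fun c hc => ?_
    have h : (L ⊔ M).map (MulAut.conj g).toMonoidHom ≤ L ⊔ M := by
      rw [Subgroup.map_sup]
      refine sup_le_sup ?_ ?_
      · rintro _ ⟨d, hd, rfl⟩; exact (mem_normalizer_iff.1 (hKL hg) d).1 hd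
      · rintro _ ⟨d, hd, rfl⟩; exact (mem_normalizer_iff.1 (hKM hg) d).1 hd
    exact h ⟨c, hc, rfl⟩
  refine ⟨M, hMK, hKM, hM, hle, fun g hg => ?_⟩
  haveI := Fintype.ofFinite M
  refine Subgroup.mem_normalizer_fintype fun c hc => ?_
  refine hle (M.map (MulAut.conj g).toMonoidHom) ?_ ?_ (hM.map _) ⟨c, hc, rfl⟩
  · rintro _ ⟨d, hd, rfl⟩
    exact (mem_normalizer_iff.1 hg d).1 (hMK hd)
  · intro k hk
    haveI := Fintype.ofFinite (M.map (MulAut.conj g).toMonoidHom)
    refine Subgroup.mem_normalizer_fintype ?_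
    rintro _ ⟨d, hd, rfl⟩
    have hk' : g⁻¹ * k * g ∈ K := by simpa using (mem_normalizer_iff.1 (inv_mem hg) k).1 hk
    refine ⟨_, (mem_normalizer_iff.1 (hKM hk') d).1 hd, ?_⟩
    show g * ((g⁻¹ * k * g) * d * (g⁻¹ * k * g)⁻¹) * g⁻¹ = k * (g * d * g⁻¹) * k⁻¹
    group

namespace TwoP

variable {p q : ℕ} (h : TwoP G p q)
include h

theorem pow_p_of_mem {N : Subgroup G} (hN : IsPGroup p N) {x : G} (hx : x ∈ N) : x ^ p = 1 := by
  obtain ⟨k, hk⟩ := hN ⟨x, hx⟩
  exact h.pow_prime_eq_one (k := k) (Or.inl rfl) (congrArg Subtype.val hk)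

theorem comm_of_core (hex : ∃ t x : G, orderOf t = 2 ∧ x ≠ 1 ∧ ∃ N : Subgroup G,
      N ≤ centralizer ({t} : Set G) ∧ centralizer ({t} : Set G) ≤ normalizer (N : Set G) ∧
        IsPGroup p N ∧ x ∈ N) :
    ∀ t x y : G, orderOf t = 2 → x ^ p = 1 → y ^ p = 1 → Commute t x → Commute t y → Commute x y := by
  classical
  haveI := Fact.mk h.pp
  obtain ⟨t₀, x₀, ht₀, hx₀1, N₀, hN₀C, hCN₀, hN₀, hx₀⟩ := hex
  have hall : ∀ t x : G, orderOf t = 2 → x ^ p = 1 → x ≠ 1 → Commute t x → ∃ N : Subgroup G,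
      N ≤ centralizer ({t} : Set G) ∧ centralizer ({t} : Set G) ≤ normalizer (N : Set G) ∧
        IsPGroup p N ∧ x ∈ N := by
    intro t x ht hxp hx1 htx
    obtain ⟨a, hat, hax⟩ := h.pair_conj ht₀ (h.orderOf_eq_p (h.pow_p_of_mem hN₀ hx₀) hx₀1)
      (mem_centralizer_singleton_iff.1 (hN₀C hx₀)).symm ht (h.orderOf_eq_p hxp hx1) htx
    refine ⟨N₀.map a.toMonoidHom, ?_, ?_, hN₀.map _, ⟨x₀, hx₀, hax⟩⟩
    · rintro _ ⟨d, hd, rfl⟩
      have := (show Commute d t₀ from mem_centralizer_singleton_iff.1 (hN₀C hd)).map a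
      rw [hat] at this
      exact mem_centralizer_singleton_iff.2 this.eq
    · intro g hg
      haveI := Fintype.ofFinite (N₀.map a.toMonoidHom)
      refine Subgroup.mem_normalizer_fintype ?_
      rintro _ ⟨d, hd, rfl⟩
      have hg' : a.symm g ∈ centralizer ({t₀} : Set G) := by
        have := (show Commute g t from mem_centralizer_singleton_iff.1 hg).map a.symm
        rw [← hat, a.symm_apply_apply] at this
        exact mem_centralizer_singleton_iff.2 this.eq
      exact ⟨_, (mem_normalizer_iff.1 (hCN₀ hg') d).1 hd, by simp⟩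
  intro t x y ht hxp hyp htx hty
  by_cases hx1 : x = 1
  · exact hx1 ▸ Commute.one_left y
  obtain ⟨R, hRC, hCR, hR, hRmax, -⟩ := exists_max_normal p (centralizer ({t} : Set G))
  have hmem : ∀ z : G, z ^ p = 1 → Commute t z → z ∈ R := fun z hzp htz => by
    by_cases hz1 : z = 1
    · exact hz1 ▸ R.one_mem
    obtain ⟨N, hNC, hCN, hN, hzN⟩ := hall t z ht hzp hz1 htz
    exact hRmax N hNC hCN hN hzN
  haveI : Nontrivial R := ⟨⟨x, hmem x hxp htx⟩, 1, fun e => hx1 (congrArg Subtype.val e)⟩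
  haveI := hR.center_nontrivial
  obtain ⟨z, hz⟩ := exists_ne (1 : center R)
  obtain ⟨a, hat, hax⟩ := h.pair_conj ht
    (h.orderOf_eq_p (h.pow_p_of_mem hR (z : R).2) fun e => hz (Subtype.ext (Subtype.ext e)))
    (mem_centralizer_singleton_iff.1 (hRC (z : R).2)).symm ht (h.orderOf_eq_p hxp hx1) htx
  have h1 : a.symm y ∈ R := hmem _ (by rw [← map_pow, hyp, map_one]) (by
    have := hty.map a.symm
    have e : a.symm t = t := by nth_rewrite 1 [← hat]; exact a.symm_apply_apply t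
    rwa [e] at this)
  have h2 : Commute ((z : R) : G) (a.symm y) :=
    congrArg Subtype.val (mem_center_iff.1 z.2 ⟨_, h1⟩).symm
  have h3 := h2.map a
  rwa [hax, a.apply_symm_apply] at h3

/-- With no `p`-core, the involution centralisers have a self-centralising two-core. -/
theorem two_core (hno : ∀ t x : G, orderOf t = 2 → (∃ N : Subgroup G,
      N ≤ centralizer ({t} : Set G) ∧ centralizer ({t} : Set G) ≤ normalizer (N : Set G) ∧
        IsPGroup p N ∧ x ∈ N) → x = 1) {t : G} (ht : orderOf t = 2) :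
    ∃ T : Subgroup G, (∀ c ∈ T, c * c = 1 ∧ Commute t c) ∧
      (∀ w : G, w * w = 1 → Commute t w → w ∈ T) ∧
      ∀ c : G, (∀ d ∈ T, Commute d c) → c ∈ T := by
  classical
  haveI := Fact.mk h.pp
  haveI : Fact (Nat.Prime 2) := ⟨Nat.prime_two⟩
  obtain ⟨T, hTC, hCT, hT, hTmax, -⟩ := exists_max_normal 2 (centralizer ({t} : Set G))
  have hsq : ∀ c ∈ T, c * c = 1 := fun c hc => by
    obtain ⟨k, hk⟩ := hT ⟨c, hc⟩
    exact h.sq_eq_one_of_pow (k := k) (congrArg Subtype.val hk)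
  have htT : t ∈ T := by
    refine hTmax (zpowers t) (zpowers_le.2 (mem_centralizer_singleton_iff.2 rfl)) (fun g hg => ?_)
      (IsPGroup.of_card (n := 1) (by rw [Nat.card_zpowers, ht, pow_one])) (mem_zpowers t)
    haveI := Fintype.ofFinite (zpowers t)
    refine Subgroup.mem_normalizer_fintype ?_
    rintro _ ⟨k, rfl⟩
    have hc := (show Commute g t from mem_centralizer_singleton_iff.1 hg).zpow_right k
    exact ⟨k, by simp only; rw [hc.eq, mul_inv_cancel_right]⟩
  refine ⟨T, fun c hc => ⟨hsq c hc, (mem_centralizer_singleton_iff.1 (hTC hc)).symm⟩, ?_⟩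
  suffices hself : ∀ c : G, (∀ d ∈ T, Commute d c) → c ∈ T by
    refine ⟨fun w hw htw => hself w fun d hd => ?_, hself⟩
    have hwp : IsPGroup 2 (zpowers w) := fun b => ⟨1, Subtype.ext (by
      obtain ⟨j, hj⟩ := b.2
      rw [SubgroupClass.coe_pow, ← hj, pow_one, ← zpow_natCast, ← zpow_mul, mul_comm, zpow_mul,
        zpow_natCast, pow_two, hw, one_zpow]; rfl)⟩
    obtain ⟨j, hj⟩ := hwp.to_sup_of_normal_right' hT
      (zpowers_le.2 (hCT (mem_centralizer_singleton_iff.2 htw.eq.symm)))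
      ⟨d * w, mul_mem (mem_sup_right hd) (mem_sup_left (mem_zpowers w))⟩
    have hdw := h.sq_eq_one_of_pow (k := j) (congrArg Subtype.val hj)
    calc d * w = (d * w)⁻¹ := (inv_eq_of_mul_eq_one_right hdw).symm
      _ = w * d := by
        rw [mul_inv_rev, inv_eq_of_mul_eq_one_left hw, inv_eq_of_mul_eq_one_left (hsq d hd)]
  set K := centralizer (T : Set G) with hK
  have hKC : K ≤ centralizer ({t} : Set G) := fun c hc =>
    mem_centralizer_singleton_iff.2 (mem_centralizer_iff.1 hc t htT).symm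
  have hTK : T ≤ K := fun c hc => mem_centralizer_iff.2 fun d hd => by
    calc d * c = (d * c)⁻¹ := (inv_eq_of_mul_eq_one_right (hsq _ (mul_mem hd hc))).symm
      _ = c * d := by
        rw [mul_inv_rev, inv_eq_of_mul_eq_one_left (hsq c hc), inv_eq_of_mul_eq_one_left (hsq d hd)]
  have hCK : centralizer ({t} : Set G) ≤ normalizer (K : Set G) := fun g hg => by
    haveI := Fintype.ofFinite K
    refine Subgroup.mem_normalizer_fintype fun c hc => mem_centralizer_iff.2 fun d hd => ?_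
    have hd' : g⁻¹ * d * g ∈ T := by simpa using (mem_normalizer_iff.1 (inv_mem (hCT hg)) d).1 hd
    have h1 := (show Commute (g⁻¹ * d * g) c from mem_centralizer_iff.1 hc _ hd').map (MulAut.conj g)
    simpa [mul_assoc] using h1.eq
  obtain ⟨A, hAK, hKA, hA, hAmax, hNA⟩ := exists_max_normal 2 K
  obtain ⟨B, hBK, hKB, hB, hBmax, hNB⟩ := exists_max_normal p K
  have hA' : A ≤ T := hTmax A (hAK.trans hKC) (hCK.trans hNA) hA
  have hB' : B ≤ ⊥ := fun b hb => mem_bot.2
    (hno t b ht ⟨B, hBK.trans hKC, hCK.trans hNB, hB, hb⟩)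
  intro c hc
  by_contra hcT
  have hcK : c ∈ K := mem_centralizer_iff.2 fun d hd => hc d hd
  have hpow : ∀ g ∈ K, g ^ (2 * p) = 1 := fun g hg =>
    h.pow_two_p_of_commute_two ht (mem_centralizer_singleton_iff.1 (hKC hg)).symm
  haveI : (T.subgroupOf K).Normal :=
    (normal_subgroupOf_iff_le_normalizer hTK).2 (hKC.trans hCT)
  have hX : ∀ g : K ⧸ T.subgroupOf K, g ^ (2 * p) = 1 := by
    intro g
    obtain ⟨g, rfl⟩ := QuotientGroup.mk'_surjective _ g
    rw [← map_pow]
    exact (QuotientGroup.eq_one_iff _).2 (by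
      show ((g ^ (2 * p) : K) : G) ∈ T
      rw [SubgroupClass.coe_pow, hpow g g.2]; exact T.one_mem)
  haveI := h.isSolvable_of_pow Nat.prime_two h.pp hX
  haveI : Nontrivial (K ⧸ T.subgroupOf K) :=
    ⟨⟨QuotientGroup.mk ⟨c, hcK⟩, 1, fun e => hcT ((QuotientGroup.eq_one_iff (⟨c, hcK⟩ : K)).1 e)⟩⟩
  obtain ⟨r, N, hr, hN, hN1, hNr⟩ :=
    CfsgLib.SpecFive.exists_normal_prime_exp (G := K ⧸ T.subgroupOf K)
  obtain ⟨a, ha, ha1⟩ := N.bot_or_exists_ne_one.resolve_left hN1
  obtain ⟨g, rfl⟩ := QuotientGroup.mk'_surjective _ a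
  set π := QuotientGroup.mk' (T.subgroupOf K) with hπ
  have hπ1 : ∀ y : K, π y = 1 ↔ (y : G) ∈ T := fun y => QuotientGroup.eq_one_iff y
  set M : Subgroup G := (N.comap π).map K.subtype with hM
  have hMK : M ≤ K := map_subtype_le _
  have hKM : K ≤ normalizer (M : Set G) := by
    refine (normal_subgroupOf_iff_le_normalizer hMK).1 ?_
    rw [hM, subgroupOf, comap_map_eq_self_of_injective K.subtype_injective]
    exact hN.comap _
  haveI := Fact.mk hr
  obtain ⟨k, hk⟩ := IsPGroup.iff_orderOf.1 hNr ⟨π g, ha⟩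
  rw [Subgroup.orderOf_mk] at hk
  have hk0 : k ≠ 0 := fun e => ha1 (orderOf_eq_one_iff.1 (by rw [hk, e, pow_zero]))
  have hd : r ∣ 2 * p := (dvd_pow_self r hk0).trans (hk ▸ orderOf_dvd_of_pow_eq_one (hX (π g)))
  rcases hr.dvd_mul.1 hd with e | e
  · obtain rfl := (Nat.prime_dvd_prime_iff_eq hr Nat.prime_two).1 e
    have hM2 : IsPGroup 2 M := by
      rintro ⟨_, y, hy, rfl⟩
      obtain ⟨j, hj⟩ := hNr ⟨_, hy⟩
      refine ⟨j + 1, Subtype.ext ?_⟩
      rw [SubgroupClass.coe_pow, pow_succ, pow_mul, pow_two]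
      refine hsq _ ?_
      have h1 := (hπ1 (y ^ 2 ^ j)).1 ((map_pow π y _).trans (congrArg Subtype.val hj))
      simpa using h1
    exact ha1 ((hπ1 g).2 (hA' (hAmax M hMK hKM hM2 ⟨g, ha, rfl⟩)))
  · obtain rfl := (Nat.prime_dvd_prime_iff_eq hr h.pp).1 e
    -- the layer is nilpotent
    let f : M →* K ⧸ T.subgroupOf K := π.comp (Subgroup.inclusion hMK)
    have hfr : IsPGroup r f.range := by
      refine hNr.to_le ?_
      rintro _ ⟨⟨_, y, hy, rfl⟩, rfl⟩
      exact hy
    haveI := hfr.isNilpotent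
    haveI : Group.IsNilpotent M := by
      refine Subgroup.isNilpotent_of_ker_le_center f.rangeRestrict ?_
      intro y hy
      rw [MonoidHom.ker_rangeRestrict, MonoidHom.mem_ker] at hy
      refine mem_center_iff.2 fun z => Subtype.ext ?_
      exact (mem_centralizer_iff.1 (hMK z.2) _ ((hπ1 _).1 hy)).symm
    obtain ⟨Y⟩ := (inferInstance : Nonempty (Sylow r M))
    haveI := Sylow.unique_of_normal Y inferInstance
    have hYall : ∀ y : M, y ^ r = 1 → y ∈ (Y : Subgroup M) := fun y hy => by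
      have hp : IsPGroup r (zpowers y) := fun b => ⟨1, Subtype.ext (by
        obtain ⟨j, hj⟩ := b.2
        rw [SubgroupClass.coe_pow, ← hj, pow_one, ← zpow_natCast, ← zpow_mul, mul_comm, zpow_mul,
          zpow_natCast, hy, one_zpow]; rfl)⟩
      obtain ⟨P, hP⟩ := hp.exists_le_sylow
      rw [Subsingleton.elim P Y] at hP
      exact hP (mem_zpowers y)
    set YG := (Y : Subgroup M).map M.subtype with hYG
    have hKY : K ≤ normalizer (YG : Set G) := fun x hx => by
      haveI := Fintype.ofFinite YG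
      refine Subgroup.mem_normalizer_fintype ?_
      rintro _ ⟨y, hy, rfl⟩
      refine ⟨⟨x * y * x⁻¹, (mem_normalizer_iff.1 (hKM hx) y).1 y.2⟩, hYall _ (Subtype.ext ?_), rfl⟩
      show (x * (y : G) * x⁻¹) ^ r = 1
      rw [conj_pow, show (y : G) ^ r = 1 from h.pow_p_of_mem (Y.2.map M.subtype) ⟨y, hy, rfl⟩, mul_one, mul_inv_cancel]
    have hg : (g : G) ∈ M := ⟨g, ha, rfl⟩
    obtain ⟨h1, h2, he⟩ := h.split (hpow g g.2)
    have hY1 : (g : G) ^ (r + 1) = 1 := mem_bot.1 (hB' (hBmax YG ((map_subtype_le _).trans hMK) hKY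
      (Y.2.map _) ⟨⟨_, pow_mem hg _⟩, hYall _ (Subtype.ext h2), rfl⟩))
    rw [hY1, mul_one] at he
    have hgg : (g : G) * g = 1 := by rw [he]; exact h1
    refine ha1 (orderOf_eq_one_iff.1 ?_)
    have hd2 : orderOf (π g) ∣ 2 := orderOf_dvd_of_pow_eq_one (by
      rw [← map_pow, pow_two, show g * g = 1 from Subtype.ext hgg, map_one])
    rcases (Nat.dvd_prime Nat.prime_two).1 hd2 with e2 | e2
    · exact e2
    · exact absurd ((Nat.prime_dvd_prime_iff_eq hr Nat.prime_two).1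
        ((dvd_pow_self r hk0).trans (hk ▸ e2.dvd))) h.p2

/-- Element orders `1, 2, p, q, 2p` force `PSL₂` over a field of odd order. -/
theorem psl [IsSimpleGroup G] (hG : ¬ IsMulCommutative G) :
    ∃ (F : Type) (_ : Field F) (_ : Fintype F), Odd (Fintype.card F) ∧
      Nonempty (G ≃* Matrix.ProjectiveSpecialLinearGroup (Fin 2) F) := by
  classical
  by_cases hex : ∃ t x : G, orderOf t = 2 ∧ x ≠ 1 ∧ ∃ N : Subgroup G,
      N ≤ centralizer ({t} : Set G) ∧ centralizer ({t} : Set G) ≤ normalizer (N : Set G) ∧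
        IsPGroup p N ∧ x ∈ N
  · have hR := h.comm_of_core hex
    by_cases hs : ∃ t s x : G, orderOf t = 2 ∧ s * s = 1 ∧ Commute t s ∧ x ^ p = 1 ∧ Commute t x ∧
        ¬ Commute s x
    · exact Split.psl ⟨h, hR, hs⟩
    push Not at hs
    have hTI : TI G p q := ⟨h, fun t u v ht hu hv htu htv => by
      obtain ⟨h1, h2, he⟩ := h.split (h.pow_two_p_of_commute_two ht (htu.mul_right htv))
      set x := (u * v) ^ (p + 1) with hx
      have htx : Commute t x := (htu.mul_right htv).pow_right _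
      have hux := hs t u x ht hu htu h2 htx
      have hinv : u * x * u⁻¹ = x⁻¹ := by
        rw [hx, ← conj_pow, conj_invol_mul hu hv, inv_pow]
      rw [hux.eq, mul_inv_cancel_right] at hinv
      have hx2 : x ^ 2 = 1 := by rw [pow_two]; exact eq_inv_iff_mul_eq_one.1 hinv
      have hx1 : x = 1 := by
        simpa [(Nat.coprime_primes Nat.prime_two h.pp).2 h.p2.symm] using pow_gcd_eq_one.2 ⟨hx2, h2⟩
      rw [hx1, mul_one] at he
      have huv : (u * v) * (u * v) = 1 := by rw [he]; exact h1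
      calc u * v = (u * v)⁻¹ := (inv_eq_of_mul_eq_one_right huv).symm
        _ = v * u := by rw [mul_inv_rev, inv_eq_of_mul_eq_one_left hu, inv_eq_of_mul_eq_one_left hv]⟩
    refine (hTI.no_Ia hG (fun t u x ht hu hx htx => ?_) hR).elim
    obtain ⟨huu, htu⟩ := (hTI.mem_iff ht).1 hu
    exact hs t u x ht huu htu hx htx
  · have hno : ∀ t x : G, orderOf t = 2 → (∃ N : Subgroup G,
        N ≤ centralizer ({t} : Set G) ∧ centralizer ({t} : Set G) ≤ normalizer (N : Set G) ∧
          IsPGroup p N ∧ x ∈ N) → x = 1 := fun t x ht hN => by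
      by_contra hx
      exact hex ⟨t, x, ht, hx, hN⟩
    have hTI : TI G p q := ⟨h, fun t u v ht hu hv htu htv => by
      obtain ⟨T, hT, hTi, -⟩ := h.two_core hno ht
      have h1 := (hT _ (mul_mem (hTi u hu htu) (hTi v hv htv))).1
      calc u * v = (u * v)⁻¹ := (inv_eq_of_mul_eq_one_right h1).symm
        _ = v * u := by rw [mul_inv_rev, inv_eq_of_mul_eq_one_left hu, inv_eq_of_mul_eq_one_left hv]⟩
    refine (hTI.no_II hG fun t x ht hx hcomm => ?_).elim
    obtain ⟨T, hT, -, hTc⟩ := h.two_core hno ht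
    have hxT : x ∈ T := hTc x fun d hd => hcomm d ((hTI.mem_iff ht).2 (hT d hd))
    have hx2 : x ^ 2 = 1 := by rw [pow_two]; exact (hT x hxT).1
    simpa [(Nat.coprime_primes Nat.prime_two h.pp).2 h.p2.symm] using pow_gcd_eq_one.2 ⟨hx2, hx⟩

end TwoP

end CfsgLib.FiveAut
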