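import Mathlib.GroupTheory.PGroup
import Mathlib.GroupTheory.Subgroup.Centralizer
import Mathlib.GroupTheory.Sylow
import Mathlib.Data.Nat.GCD.Basic

/-!
A Frobenius group acting on an abelian group so that all norms over the complement vanish acts
trivially through its kernel.
-/

set_option autoImplicit false
set_option linter.unusedSectionVars false
set_option linter.style.haveILetI false

namespace CfsgLib.FiveAut

open Subgroup Finset
open scoped IsMulCommutative

variable {G : Type*} [Group G]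

/-- Product formula `(a x)^n = a · xax⁻¹ ⋯ x^{n-1}ax^{-(n-1)} · xⁿ`. -/
theorem mul_pow_eq_norm (A : Subgroup G) [IsMulCommutative A] (x : normalizer (A : Set G)) (a : A)
    (n : ℕ) : ((a : G) * (x : G)) ^ n =
      ((∏ i ∈ range n, A.normalizerMonoidHom (x ^ i) a : A) : G) * (x : G) ^ n := by
  induction n with
  | zero => simp
  | succ n ih =>
    rw [pow_succ, ih, prod_range_succ, pow_succ, Subgroup.coe_mul]
    simp only [Subgroup.normalizerMonoidHom_apply_apply_coe, SubgroupClass.coe_pow]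
    group

/-- If the fixed points of `x` in the abelian group `A` are trivial, every `a x` has order
dividing that of `x`. -/
theorem mul_pow_eq_one {A : Subgroup G} [IsMulCommutative A] {x a : G} {n : ℕ}
    (hx : x ∈ normalizer (A : Set G)) (ha : a ∈ A) (hxn : x ^ n = 1)
    (hfix : ∀ b ∈ A, Commute x b → b = 1) : (a * x) ^ n = 1 := by
  have h := mul_pow_eq_norm A ⟨x, hx⟩ ⟨a, ha⟩ n
  simp only [hxn, mul_one] at h
  have hmem : (a * x) ^ n ∈ A := by rw [h]; exact Subtype.coe_prop _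
  refine hfix _ hmem ?_
  have h1 : Commute (a * x) ((a * x) ^ n) := (Commute.refl _).pow_right n
  have h2 : Commute a ((a * x) ^ n) :=
    congrArg Subtype.val (mul_comm' (⟨a, ha⟩ : A) ⟨_, hmem⟩)
  have := h2.inv_left.mul_left h1
  rwa [inv_mul_cancel_left] at this

/-- Vanishing of the norms of all conjugates of a complement `⟨x⟩` makes the kernel `Y` act
trivially. -/
theorem centralizes {A Y : Subgroup G} [IsMulCommutative A] [Finite Y]
    (hY : Y ≤ normalizer (A : Set G)) {x : G} {p : ℕ} (hp : p.Prime)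
    (hxA : x ∈ normalizer (A : Set G)) (hxY : x ∈ normalizer (Y : Set G)) (hx : x ^ p = 1)
    (hfix : ∀ y ∈ Y, Commute x y → y = 1) (hcop : (Nat.card Y).Coprime (Nat.card A))
    (hnorm : ∀ y ∈ Y, ∀ a ∈ A, (a * (y * x * y⁻¹)) ^ p = 1) :
    ∀ y ∈ Y, ∀ a ∈ A, Commute y a := by
  classical
  haveI := Fintype.ofFinite Y
  let φ : normalizer (A : Set G) →* MulAut A := A.normalizerMonoidHom
  let x' : normalizer (A : Set G) := ⟨x, hxA⟩
  let ι : Y → normalizer (A : Set G) := fun y => ⟨y, hY y.2⟩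
  let N : A → A := fun b => ∏ y : Y, φ (ι y) b
  have hNfix : ∀ (z : Y) (b : A), φ (ι z) (N b) = N b := fun z b => by
    simp only [N, map_prod]
    refine Fintype.prod_equiv (Equiv.mulLeft z) _ _ fun y => ?_
    rw [← MulAut.mul_apply, ← map_mul]
    rfl
  -- the norm over each conjugate
  have hconj : ∀ (y : Y) (a : A), ∏ i ∈ range p, φ (ι y * x' ^ i * (ι y)⁻¹) a = 1 := fun y a => by
    have h := mul_pow_eq_norm A (ι y * x' * (ι y)⁻¹) a p
    simp only [Subgroup.coe_mul, Subgroup.coe_inv, x', ι] at h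
    rw [hnorm y y.2 a a.2, conj_pow, hx, mul_one, mul_inv_cancel, mul_one] at h
    simp only [conj_pow] at h
    exact Subtype.ext h.symm
  -- reindexing a twisted sum
  have hre : ∀ i, 0 < i → i < p → ∀ a : A,
      ∏ y : Y, φ (ι y * x' ^ i * (ι y)⁻¹) a = N (φ (x' ^ i) a) := by
    intro i hi hip a
    have hxi : x ^ i ∈ normalizer (Y : Set G) := pow_mem hxY i
    let w : Y →* Y := (Y.normalizerMonoidHom ⟨x ^ i, hxi⟩).toMonoidHom
    have hw : ∀ z : Y, w z = z → z = 1 := fun z hz => by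
      have hz' : x ^ i * z * (x ^ i)⁻¹ = z := congrArg Subtype.val hz
      have hc : Commute (x ^ i) (z : G) := mul_inv_eq_iff_eq_mul.1 hz'
      obtain ⟨j, -, hj⟩ := Nat.exists_mul_mod_eq_one_of_coprime
        ((hp.coprime_iff_not_dvd.2 (Nat.not_dvd_of_pos_of_lt hi hip)).symm) hp.one_lt
      have := hc.pow_left j
      rw [← pow_mul, pow_eq_pow_mod _ hx, hj, pow_one] at this
      exact Subtype.ext (hfix z z.2 this)
    have hinj : Function.Injective fun y : Y => y * w y⁻¹ := fun y z (h : y * w y⁻¹ = z * w z⁻¹) => by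
      have h' : z⁻¹ * y = w (z⁻¹ * y) := by
        rw [map_mul]
        calc z⁻¹ * y = z⁻¹ * (y * w y⁻¹) * w y := by rw [map_inv]; group
          _ = z⁻¹ * (z * w z⁻¹) * w y := by rw [h]
          _ = w z⁻¹ * w y := by group
      exact (inv_mul_eq_one.1 (hw _ h'.symm)).symm
    refine Fintype.prod_equiv (Equiv.ofBijective _ (Finite.injective_iff_bijective.1 hinj)) _ _
      fun y => ?_
    rw [← MulAut.mul_apply, ← map_mul]
    refine congrArg (fun g => φ g a) (Subtype.ext ?_)
    simp only [Equiv.ofBijective_apply, Subgroup.coe_mul, Subgroup.coe_inv, ι, x',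
      SubgroupClass.coe_pow]
    show _ = (y : G) * ((x ^ i) * ((y⁻¹ : Y) : G) * (x ^ i)⁻¹) * x ^ i
    rw [Subgroup.coe_inv]
    group
  intro y hy a ha
  have hfixpow : φ (ι ⟨y, hy⟩) ((⟨a, ha⟩ : A) ^ Nat.card Y) = (⟨a, ha⟩ : A) ^ Nat.card Y := by
    have h1 : ∏ i ∈ range p, ∏ z : Y, φ (ι z * x' ^ i * (ι z)⁻¹) ⟨a, ha⟩ = 1 := by
      rw [Finset.prod_comm]
      exact Finset.prod_eq_one fun z _ => hconj z _
    rw [← Finset.mul_prod_erase _ _ (mem_range.2 hp.pos : 0 ∈ range p)] at h1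
    have h0 : ∏ z : Y, φ (ι z * x' ^ 0 * (ι z)⁻¹) (⟨a, ha⟩ : A) = ⟨a, ha⟩ ^ Nat.card Y := by
      simp [Nat.card_eq_fintype_card]
    rw [h0, Finset.prod_congr rfl (fun i hi => hre i
      (Nat.pos_of_ne_zero (Finset.mem_erase.1 hi).1) (mem_range.1 (Finset.mem_erase.1 hi).2) _)] at h1
    rw [eq_inv_of_mul_eq_one_left h1, map_inv, map_prod]
    exact congrArg _ (Finset.prod_congr rfl fun i _ => hNfix _ _)
  obtain ⟨j, hj⟩ : ∃ j : ℕ, ((⟨a, ha⟩ : A) ^ Nat.card Y) ^ j = ⟨a, ha⟩ := by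
    refine exists_pow_eq_self_of_coprime ?_
    exact hcop.coprime_dvd_right (orderOf_dvd_natCard _)
  have := congrArg Subtype.val (show φ (ι ⟨y, hy⟩) ⟨a, ha⟩ = ⟨a, ha⟩ by
    rw [← hj, map_pow, hfixpow])
  exact mul_inv_eq_iff_eq_mul.1 (show y * a * y⁻¹ = a from this)

end CfsgLib.FiveAut
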