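import Cfsg.Agent.FiveAutOrbits.Cases
import Cfsg.Agent.CITGroups.Final
import Cfsg.Agent.CITGroups.Eppo
import Cfsg.Agent.S1230

/-!
A simple group with at most five automorphism orbits.
-/

set_option autoImplicit false
set_option linter.style.haveILetI false
set_option linter.unusedSectionVars false

namespace CfsgLib.FiveAut

open Subgroup

variable {G : Type*} [Group G] [Finite G]

/-- The four groups with at most five orbits. -/
def Listed (G : Type*) [Group G] : Prop :=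
  Nonempty (G ≃* ↥(alternatingGroup (Fin 5))) ∨ Nonempty (G ≃* ↥(alternatingGroup (Fin 6))) ∨
    (∃ (F : Type) (_ : Field F) (_ : Fintype F), (Fintype.card F = 7 ∨ Fintype.card F = 8) ∧
      Nonempty (G ≃* Matrix.ProjectiveSpecialLinearGroup (Fin 2) F))

section Orders

/-- The element order of an orbit. -/
noncomputable def orbitOrder : MulAction.orbitRel.Quotient (MulAut G) G → ℕ :=
  Quotient.lift (fun x => orderOf x) fun x y hxy => by
    obtain ⟨a, rfl⟩ := MulAction.orbitRel_apply.1 hxy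
    exact MulEquiv.orderOf_eq a y

variable (h5 : Nat.card (MulAction.orbitRel.Quotient (MulAut G) G) ≤ 5)
include h5

/-- At most five element orders. -/
theorem card_orders {O : Finset ℕ} (hO : ∀ n ∈ O, ∃ g : G, orderOf g = n) : O.card ≤ 5 := by
  classical
  haveI := Fintype.ofFinite (MulAction.orbitRel.Quotient (MulAut G) G)
  refine le_trans ?_ h5
  rw [Nat.card_eq_fintype_card, ← Finset.card_univ]
  refine (Finset.card_le_card ?_).trans (Finset.card_image_le (f := orbitOrder))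
  intro n hn
  obtain ⟨g, hg⟩ := hO n hn
  exact Finset.mem_image.2 ⟨Quotient.mk _ g, Finset.mem_univ _, hg⟩

theorem not_six {O : Finset ℕ} (hO : ∀ n ∈ O, ∃ g : G, orderOf g = n) : O.card ≠ 6 := fun e => by
  have := card_orders h5 hO
  omega

/-- Five orders exhaust the orders and separate the orbits. -/
theorem of_five {O : Finset ℕ} (hO : ∀ n ∈ O, ∃ g : G, orderOf g = n) (hc : O.card = 5) :
    (∀ g : G, orderOf g ∈ O) ∧ ∀ x y : G, orderOf x = orderOf y → ∃ a : MulAut G, a x = y := by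
  classical
  haveI := Fintype.ofFinite (MulAction.orbitRel.Quotient (MulAut G) G)
  have hall : ∀ g : G, orderOf g ∈ O := fun g => by
    by_contra hg
    have := card_orders h5 (O := insert (orderOf g) O) fun n hn => by
      rcases Finset.mem_insert.1 hn with rfl | hn
      exacts [⟨g, rfl⟩, hO n hn]
    rw [Finset.card_insert_of_notMem hg, hc] at this
    omega
  refine ⟨hall, fun x y hxy => ?_⟩
  have himg : Finset.univ.image (orbitOrder (G := G)) = O := by
    refine Finset.Subset.antisymm ?_ fun n hn => ?_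
    · intro n hn
      obtain ⟨c, -, rfl⟩ := Finset.mem_image.1 hn
      induction c using Quotient.inductionOn with
      | h g => exact hall g
    · obtain ⟨g, hg⟩ := hO n hn
      exact Finset.mem_image.2 ⟨Quotient.mk _ g, Finset.mem_univ _, hg⟩
  have hle : (Finset.univ : Finset (MulAction.orbitRel.Quotient (MulAut G) G)).card ≤ O.card := by
    rw [Finset.card_univ, ← Nat.card_eq_fintype_card, hc]; exact h5
  have hinj := Finset.card_image_iff.1 (le_antisymm Finset.card_image_le (himg ▸ hle))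
  have hcl : (Quotient.mk _ y : MulAction.orbitRel.Quotient (MulAut G) G) = Quotient.mk _ x :=
    hinj (by simp) (by simp) hxy.symm
  exact MulAction.orbitRel_apply.1 (Quotient.exact hcl)

end Orders

theorem exists_of_dvd {g : G} {n m : ℕ} (hg : orderOf g = m) (hn : n ∣ m) :
    ∃ x : G, orderOf x = n :=
  CfsgLib.PSL2Spec.mem_range_orderOf_of_dvd (hg.symm ▸ hn)

theorem exists_of_prime {r : ℕ} (hr : r.Prime) (hd : r ∣ Nat.card G) : ∃ x : G, orderOf x = r := by
  haveI := Fact.mk hr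
  exact exists_prime_orderOf_dvd_card' r hd

/-- Without order four and without order `2r` the group is `A₅` or `PSL₂(8)`. -/
theorem listed_of_no_even [IsSimpleGroup G] (hG : ¬ IsMulCommutative G)
    (h5 : Nat.card (MulAction.orbitRel.Quotient (MulAut G) G) ≤ 5)
    (h4 : ∀ g : G, orderOf g ≠ 4)
    (h2r : ∀ (g : G) (r : ℕ), r.Prime → r ≠ 2 → orderOf g ≠ 2 * r) : Listed G := by
  classical
  haveI : Fact (Nat.Prime 2) := ⟨Nat.prime_two⟩
  have hncy : ¬ IsCyclic G := fun _ => hG ⟨⟨fun a b => IsCyclic.commGroup.mul_comm a b⟩⟩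
  obtain ⟨E, hE⟩ := Cfsg.Agent.S0204.result (G := G) hncy
  have h2 : 2 ∣ Nat.card G :=
    (show 2 ∣ Nat.card E by rw [IsKleinFour.card_four]; norm_num).trans (card_subgroup_dvd_card E)
  -- elements of two-power order square to one
  have hsq : ∀ (x : G) (k : ℕ), x ^ 2 ^ k = 1 → x ^ 2 = 1 := fun x k hx => by
    obtain ⟨j, -, hj⟩ := (Nat.dvd_prime_pow Nat.prime_two).1 (orderOf_dvd_of_pow_eq_one hx)
    rcases Nat.lt_or_ge j 2 with hj2 | hj2
    · exact orderOf_dvd_iff_pow_eq_one.1 (hj ▸ (pow_dvd_pow 2 (Nat.le_of_lt_succ hj2)))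
    · obtain ⟨y, hy⟩ := exists_of_dvd hj (pow_dvd_pow 2 hj2)
      exact absurd hy (h4 y)
  have hC : ∀ t : G, orderOf t = 2 → ∀ c ∈ centralizer ({t} : Set G), c ^ 2 = 1 := by
    intro t ht c hc
    have htc : Commute t c := (mem_centralizer_singleton_iff.1 hc).symm
    by_cases hodd : ∃ r, r.Prime ∧ r ≠ 2 ∧ r ∣ orderOf c
    · obtain ⟨r, hr, hr2, hrc⟩ := hodd
      haveI := Fact.mk hr
      have hcr : orderOf (c ^ (orderOf c / r)) = r := orderOf_pow_orderOf_div (orderOf_pos c).ne' hrc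
      refine absurd ?_ (h2r (t * c ^ (orderOf c / r)) r hr hr2)
      rw [(htc.pow_right _).orderOf_mul_eq_mul_orderOf_of_coprime
        (by rw [ht, hcr]; exact (Nat.coprime_primes Nat.prime_two hr).2 (Ne.symm hr2)), ht, hcr]
    · push Not at hodd
      have heq : orderOf c = 2 ^ (orderOf c).primeFactorsList.length :=
        Nat.eq_prime_pow_of_unique_prime_dvd (orderOf_pos c).ne' fun {d} hd hdc =>
          Classical.byContradiction fun hd2 => hodd d hd hd2 hdc
      exact hsq c _ (by rw [← heq, pow_orderOf_eq_one])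
  obtain ⟨T⟩ := (inferInstance : Nonempty (Sylow 2 G))
  obtain ⟨T₁, hET⟩ := (show IsPGroup 2 E from IsPGroup.of_card (n := 2)
    (by rw [IsKleinFour.card_four]; norm_num)).exists_le_sylow
  have hT4 : 4 ≤ Nat.card (T : Subgroup G) := by
    rw [Nat.card_congr (T.equiv T₁).toEquiv, ← IsKleinFour.card_four (G := E)]
    exact Subgroup.card_le_of_le hET
  have hexp : ∀ x ∈ (T : Subgroup G), x ^ 2 = 1 := fun x hx => by
    obtain ⟨k, hk⟩ := T.2 ⟨x, hx⟩
    exact hsq x k (congrArg Subtype.val hk)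
  have hnc : ¬ IsCyclic (T : Subgroup G) := fun hcyc => by
    obtain ⟨g, hg⟩ := hcyc.exists_ofOrder_eq_natCard
    have := Nat.le_of_dvd two_pos (orderOf_dvd_of_pow_eq_one (show g ^ 2 = 1 from Subtype.ext (hexp g g.2)))
    omega
  have hnn : ¬ (T : Subgroup G).Normal := fun hn => by
    rcases hn.eq_bot_or_eq_top with e | e
    · rw [e, card_bot] at hT4; omega
    · refine hG ⟨⟨fun a b => ?_⟩⟩
      have ha := hexp a (e ▸ mem_top a)
      have hb := hexp b (e ▸ mem_top b)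
      have hab := hexp (a * b) (e ▸ mem_top _)
      rw [pow_two] at ha hb hab
      calc a * b = (a * b)⁻¹ := (inv_eq_of_mul_eq_one_right hab).symm
        _ = b * a := by rw [mul_inv_rev, inv_eq_of_mul_eq_one_left ha, inv_eq_of_mul_eq_one_left hb]
  obtain ⟨F, iF, iFt, hF, ⟨φ⟩⟩ := Cfsg.Agent.S1230.result T hnc hnn fun t ht => by
    refine ⟨⟨⟨fun a b => Subtype.ext ?_⟩⟩, hC t ht⟩
    have ha := hC t ht a a.2
    have hb := hC t ht b b.2
    have hab := hC t ht _ (mul_mem a.2 b.2)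
    rw [pow_two] at ha hb hab
    show (a : G) * b = b * a
    calc (a : G) * b = ((a : G) * b)⁻¹ := (inv_eq_of_mul_eq_one_right hab).symm
      _ = b * a := by rw [mul_inv_rev, inv_eq_of_mul_eq_one_left ha, inv_eq_of_mul_eq_one_left hb]
  obtain ⟨k, hk⟩ := IsPGroup.iff_card.1 T.2
  rw [hk] at hF hT4
  have hk2 : 2 ≤ k := (Nat.pow_le_pow_iff_right one_lt_two).1 (show 2 ^ 2 ≤ 2 ^ k from hT4)
  rcases (show k = 2 ∨ k = 3 ∨ 4 ≤ k by omega) with rfl | rfl | hk4
  · obtain ⟨ψ⟩ := Cfsg.Agent.S0252.result (F := F) (hF.trans (by norm_num))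
    exact Or.inl ⟨φ.trans ψ⟩
  · exact Or.inr (Or.inr ⟨F, iF, iFt, Or.inr (hF.trans (by norm_num)), ⟨φ⟩⟩)
  exfalso
  obtain ⟨s, hs⟩ := CharP.exists F
  obtain ⟨j, hsp, hj⟩ := FiniteField.card F s
  haveI := Fact.mk hsp
  have hQ16 : 16 ≤ Fintype.card F := hF ▸ (Nat.pow_le_pow_right two_pos hk4 : 2 ^ 4 ≤ 2 ^ k)
  have heven : 2 ∣ Fintype.card F := hF ▸ dvd_pow_self 2 (by omega)
  have hgcd : Nat.gcd 2 (Fintype.card F - 1) = 1 :=
    (Nat.prime_two.coprime_iff_not_dvd).2 (by omega)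
  obtain ⟨g₁, hg₁⟩ := CfsgLib.PSL2Spec.exists_orderOf_minus (F := F)
  obtain ⟨g₂, hg₂⟩ := CfsgLib.PSL2Spec.exists_orderOf_plus (F := F) s
  rw [hgcd, Nat.div_one] at hg₁ hg₂
  have hm := (MulEquiv.orderOf_eq φ.symm g₁).trans hg₁
  have hp := (MulEquiv.orderOf_eq φ.symm g₂).trans hg₂
  obtain ⟨x₂, hx₂⟩ := exists_of_prime Nat.prime_two h2
  have h3 : ¬ 3 ∣ Fintype.card F := fun h3 => by
    rw [hF] at h3
    exact absurd (Nat.prime_three.dvd_of_dvd_pow h3) (by norm_num)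
  have hdiv : ∀ d n : ℕ, (∃ x : G, orderOf x = n) → d ∣ n → ∃ x : G, orderOf x = d :=
    fun d n ⟨x, hx⟩ hd => exists_of_dvd hx hd
  rcases (show 3 ∣ Fintype.card F - 1 ∨ 3 ∣ Fintype.card F + 1 by
    rcases (show Fintype.card F % 3 = 0 ∨ Fintype.card F % 3 = 1 ∨ Fintype.card F % 3 = 2 by omega) with
      e | e | e
    · exact absurd (Nat.dvd_of_mod_eq_zero e) h3
    · exact Or.inl (by omega)
    · exact Or.inr (by omega)) with hd | hd
  · refine not_six h5 (O := {1, 2, 3, (Fintype.card F - 1) / 3, Fintype.card F - 1, Fintype.card F + 1})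
      (fun n hn => ?_) ?_
    · simp only [Finset.mem_insert, Finset.mem_singleton] at hn
      rcases hn with rfl | rfl | rfl | rfl | rfl | rfl
      exacts [⟨1, orderOf_one⟩, ⟨x₂, hx₂⟩, hdiv _ _ ⟨_, hm⟩ hd, hdiv _ _ ⟨_, hm⟩ (Nat.div_dvd_of_dvd hd),
        ⟨_, hm⟩, ⟨_, hp⟩]
    · repeat rw [Finset.card_insert_of_notMem (by simp only [Finset.mem_insert, Finset.mem_singleton]; omega)]
      rw [Finset.card_singleton]
  · refine not_six h5 (O := {1, 2, 3, (Fintype.card F + 1) / 3, Fintype.card F - 1, Fintype.card F + 1})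
      (fun n hn => ?_) ?_
    · simp only [Finset.mem_insert, Finset.mem_singleton] at hn
      rcases hn with rfl | rfl | rfl | rfl | rfl | rfl
      exacts [⟨1, orderOf_one⟩, ⟨x₂, hx₂⟩, hdiv _ _ ⟨_, hp⟩ hd, hdiv _ _ ⟨_, hp⟩ (Nat.div_dvd_of_dvd hd),
        ⟨_, hm⟩, ⟨_, hp⟩]
    · repeat rw [Finset.card_insert_of_notMem (by simp only [Finset.mem_insert, Finset.mem_singleton]; omega)]
      rw [Finset.card_singleton]

theorem five_card (a b c d e : ℕ) (hab : a ≠ b) (hac : a ≠ c) (had : a ≠ d) (hae : a ≠ e)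
    (hbc : b ≠ c) (hbd : b ≠ d) (hbe : b ≠ e) (hcd : c ≠ d) (hce : c ≠ e) (hde : d ≠ e) :
    ({a, b, c, d, e} : Finset ℕ).card = 5 := by
  simp [Finset.card_insert_of_notMem, hab, hac, had, hae, hbc, hbd, hbe, hcd, hce, hde]

/-- An element of order four leaves `A₅`, `A₆`, `PSL₂(7)` and `PSL₂(8)`. -/
theorem listed_of_four [IsSimpleGroup G] (hns : ¬ Group.IsSolvable G)
    (h5 : Nat.card (MulAction.orbitRel.Quotient (MulAut G) G) ≤ 5)
    {g : G} (hg : orderOf g = 4) : Listed G := by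
  classical
  obtain ⟨a, b, c, ha, hb, hc, hab, hac, hbc⟩ :=
    Finset.two_lt_card_iff.1 (CfsgLib.FourAutOrbits.three_le_primeFactors hns)
  have hdvd : ∀ r ∈ (Nat.card G).primeFactors, ∃ x : G, orderOf x = r := fun r hr =>
    exists_of_prime (Nat.prime_of_mem_primeFactors hr) (Nat.dvd_of_mem_primeFactors hr)
  have hap := Nat.prime_of_mem_primeFactors ha
  have hbp := Nat.prime_of_mem_primeFactors hb
  have hcp := Nat.prime_of_mem_primeFactors hc
  have h44 : ¬ Nat.Prime 4 := by norm_num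
  obtain ⟨hall, -⟩ := of_five h5 (O := {1, 4, a, b, c}) (fun n hn => by
    simp only [Finset.mem_insert, Finset.mem_singleton] at hn
    rcases hn with rfl | rfl | rfl | rfl | rfl
    exacts [⟨1, orderOf_one⟩, ⟨g, hg⟩, hdvd _ ha, hdvd _ hb, hdvd _ hc])
    (five_card 1 4 a b c (by norm_num) hap.ne_one.symm hbp.ne_one.symm hcp.ne_one.symm
      (fun e => h44 (e ▸ hap)) (fun e => h44 (e ▸ hbp)) (fun e => h44 (e ▸ hcp)) hab hac hbc)
  have hord : ∀ x : G, x ≠ 1 → orderOf x = 4 ∨ (orderOf x).Prime := fun x hx => by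
    have h1 := hall x
    simp only [Finset.mem_insert, Finset.mem_singleton] at h1
    rcases h1 with e | e | e | e | e
    · exact absurd (orderOf_eq_one_iff.1 e) hx
    · exact Or.inl e
    · exact Or.inr (e ▸ hap)
    · exact Or.inr (e ▸ hbp)
    · exact Or.inr (e ▸ hcp)
  have heppo : ∀ x : G, x ≠ 1 → IsPrimePow (orderOf x) := fun x hx => by
    rcases hord x hx with e | e
    · rw [e]; exact (isPrimePow_nat_iff 4).2 ⟨2, 2, Nat.prime_two, two_pos, by norm_num⟩
    · exact e.isPrimePow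
  have hno : ∀ n, n ≠ 1 → n ≠ 4 → ¬ n.Prime → ∀ x : G, orderOf x ≠ n := fun n h1 h4 hp x e => by
    rcases hord x (fun hx => h1 (by rw [← e, hx, orderOf_one])) with e' | e'
    · exact h4 (e.symm.trans e')
    · exact hp (e ▸ e')
  rcases CfsgLib.CIT.eppo_of_listed hns heppo
      (CfsgLib.CIT.simple_cit (CfsgLib.CIT.isCIT_of_eppo heppo) hns) with
    h6 | ⟨F, iF, iFt, hF, ⟨φ⟩⟩ | ⟨F, iF, iFt, hF, ⟨φ⟩⟩ | ⟨F, iF, iFt, hF⟩
  · exact Or.inr (Or.inl h6)
  · simp only [Finset.mem_insert, Finset.mem_singleton] at hF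
    rcases hF with e | e | e | e
    · obtain ⟨ψ⟩ := Cfsg.Agent.S0252.result (F := F) e
      exact Or.inl ⟨φ.trans ψ⟩
    · exact Or.inr (Or.inr ⟨F, iF, iFt, Or.inl e, ⟨φ⟩⟩)
    · exact Or.inr (Or.inr ⟨F, iF, iFt, Or.inr e, ⟨φ⟩⟩)
    · exfalso
      obtain ⟨g₁, hg₁⟩ := CfsgLib.PSL2Spec.exists_orderOf_minus (F := F)
      rw [e] at hg₁
      exact hno 8 (by norm_num) (by norm_num) (by norm_num) (φ.symm g₁)
        ((MulEquiv.orderOf_eq φ.symm g₁).trans (hg₁.trans (by norm_num)))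
  · -- four primes in `PSL₃(4)`
    exfalso
    have hP := CfsgLib.Linear.card_PSL_mul (F := F) hF 3 (by norm_num)
    rw [Fin.prod_univ_three, ← Nat.card_congr φ.toEquiv] at hP
    norm_num at hP
    have hc' : Nat.card G = 20160 := by omega
    have hp : ∀ r, r.Prime → r ∣ 20160 → ∃ x : G, orderOf x = r := fun r hr hd =>
      exists_of_prime hr (hc'.symm ▸ hd)
    refine not_six h5 (O := {1, 4, 2, 3, 5, 7}) (fun n hn => ?_) (by decide)
    simp only [Finset.mem_insert, Finset.mem_singleton] at hn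
    rcases hn with rfl | rfl | rfl | rfl | rfl | rfl
    exacts [⟨1, orderOf_one⟩, ⟨g, hg⟩, hp 2 Nat.prime_two (by norm_num), hp 3 Nat.prime_three (by norm_num),
      hp 5 (by norm_num) (by norm_num), hp 7 (by norm_num) (by norm_num)]
  · exfalso
    rcases hF with ⟨hF, ⟨φ⟩⟩ | ⟨hF, ⟨φ⟩⟩
    · obtain ⟨⟨x, hx⟩, ⟨y, hy⟩, ⟨z, hz⟩, -⟩ := CfsgLib.CIT.ListOrders.suzuki_data (m := 1) le_rfl
        (hF.trans (by norm_num)) φ
      obtain ⟨u, hu⟩ := exists_of_dvd hg (show 2 ∣ 4 by norm_num)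
      refine not_six h5 (O := {1, 2, 4, 7, 13, 5}) (fun n hn => ?_) (by decide)
      simp only [Finset.mem_insert, Finset.mem_singleton] at hn
      rcases hn with rfl | rfl | rfl | rfl | rfl | rfl
      exacts [⟨1, orderOf_one⟩, ⟨u, hu⟩, ⟨g, hg⟩, ⟨x, hx⟩, ⟨y, hy⟩, ⟨z, hz⟩]
    · obtain ⟨-, -, ⟨z, hz⟩, -⟩ := CfsgLib.CIT.ListOrders.suzuki_data (m := 2) (by norm_num)
        (hF.trans (by norm_num)) φ
      exact hno 25 (by norm_num) (by norm_num) (by norm_num) z (hz.trans (by norm_num))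

theorem torus_orders {m p q : ℕ} (hm : 3 ≤ m) (_hp : 3 ≤ p) (hp2 : p % 2 = 1) (hq2 : q % 2 = 1)
    (o1 : m = 1 ∨ m = 2 ∨ m = p ∨ m = q ∨ m = 2 * p)
    (o2 : m + 1 = 1 ∨ m + 1 = 2 ∨ m + 1 = p ∨ m + 1 = q ∨ m + 1 = 2 * p) :
    (m = 2 * p ∧ m + 1 = q) ∨ (m + 1 = 2 * p ∧ m = q) := by
  rcases o1 with e | e | e | e | e <;> rcases o2 with e' | e' | e' | e' | e' <;> omega

/-- An element of order `2r` leaves `A₅`. -/
theorem listed_of_twoP [IsSimpleGroup G] (hG : ¬ IsMulCommutative G) (hns : ¬ Group.IsSolvable G)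
    (h5 : Nat.card (MulAction.orbitRel.Quotient (MulAut G) G) ≤ 5)
    {g : G} {p : ℕ} (hp : p.Prime) (hp2 : p ≠ 2) (hg : orderOf g = 2 * p) : Listed G := by
  classical
  obtain ⟨q, hq, hqd, hq2, hqp⟩ := CfsgLib.EPPO.exists_third_prime (G := G) hns 2 p
  obtain ⟨y, hy⟩ := exists_of_prime hq hqd
  have hp3 : 3 ≤ p := by have := hp.two_le; omega
  have hq3 : 3 ≤ q := by have := hq.two_le; omega
  have hq2p : q ≠ 2 * p := fun e => hq2 ((Nat.prime_dvd_prime_iff_eq Nat.prime_two hq).1 (e ▸ dvd_mul_right 2 p)).symm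
  obtain ⟨hall, hconj⟩ := of_five h5 (O := {1, 2, p, q, 2 * p}) (fun n hn => by
    simp only [Finset.mem_insert, Finset.mem_singleton] at hn
    rcases hn with rfl | rfl | rfl | rfl | rfl
    exacts [⟨1, orderOf_one⟩, exists_of_dvd hg (dvd_mul_right _ _), exists_of_dvd hg (dvd_mul_left _ _),
      ⟨y, hy⟩, ⟨g, hg⟩])
    (five_card 1 2 p q (2 * p) (by norm_num) (by omega) (by omega) (by omega) (by omega) (by omega)
      (by omega) (Ne.symm hqp) (by omega) hq2p)
  have h : TwoP G p q := ⟨hp, hq, hp2, hq2, Ne.symm hqp, fun x => by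
    simpa using hall x, hconj, ⟨g, hg⟩⟩
  obtain ⟨F, iF, iFt, hodd, ⟨φ⟩⟩ := h.psl hG
  have h4 := CfsgLib.CIT.four_le_of_psl hns φ
  obtain ⟨m, hm⟩ := hodd
  obtain ⟨r, hrc⟩ := CharP.exists F
  obtain ⟨d, hr, hrd⟩ := FiniteField.card F r
  haveI := Fact.mk hr
  have hgcd : Nat.gcd 2 (Fintype.card F - 1) = 2 := Nat.gcd_eq_left (by omega)
  obtain ⟨g₁, hg₁⟩ := CfsgLib.PSL2Spec.exists_orderOf_minus (F := F)
  obtain ⟨g₂, hg₂⟩ := CfsgLib.PSL2Spec.exists_orderOf_plus (F := F) r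
  obtain ⟨g₃, hg₃⟩ := CfsgLib.PSL2Spec.exists_orderOf_p (F := F) r
  rw [hgcd] at hg₁ hg₂
  have o1 := h.ord (φ.symm g₁)
  have o2 := h.ord (φ.symm g₂)
  have o3 := h.ord (φ.symm g₃)
  rw [MulEquiv.orderOf_eq] at o1 o2 o3
  rw [hg₁] at o1
  rw [hg₂] at o2
  rw [hg₃] at o3
  rcases (show m = 2 ∨ 3 ≤ m by omega) with rfl | hm3
  · obtain ⟨e⟩ := Cfsg.Agent.S0253.result (F := F) (by omega)
    exact Or.inl ⟨φ.trans e⟩
  exfalso
  rw [show (Fintype.card F - 1) / 2 = m by omega] at o1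
  rw [show (Fintype.card F + 1) / 2 = m + 1 by omega] at o2
  have hr2 : r ≠ 2 := fun e => by
    have h2 : 2 ∣ Fintype.card F := by rw [hrd, e]; exact dvd_pow_self 2 d.ne_zero
    omega
  have hr1 := hr.two_le
  have hrQ : r ∣ 2 * m + 1 := by rw [← hm, hrd]; exact dvd_pow_self r d.ne_zero
  have hrm : ¬ r ∣ m := fun e => by
    have := Nat.le_of_dvd one_pos ((Nat.dvd_add_right (e.mul_left 2)).1 hrQ)
    omega
  have hrm1 : ¬ r ∣ m + 1 := fun e => by
    have h1 := e.mul_left 2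
    rw [show 2 * (m + 1) = 2 * m + 1 + 1 by omega] at h1
    have := Nat.le_of_dvd one_pos ((Nat.dvd_add_right hrQ).1 h1)
    omega
  have hcop : ∀ l, l.Prime → l ∣ m → ¬ l ∣ m + 1 := fun l hl h1 h2 =>
    hl.not_dvd_one ((Nat.dvd_add_right h1).1 h2)
  have hodd_p : p % 2 = 1 := h.odd_p
  have hodd_q : q % 2 = 1 := h.odd_q
  have hpqm := torus_orders hm3 hp3 hodd_p hodd_q o1 o2
  have hpm : p ∣ m ∨ p ∣ m + 1 := by
    rcases hpqm with ⟨e, -⟩ | ⟨e, -⟩
    · exact Or.inl (e ▸ dvd_mul_left p 2)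
    · exact Or.inr (e ▸ dvd_mul_left p 2)
  have hqm : q ∣ m ∨ q ∣ m + 1 := by
    rcases hpqm with ⟨-, e⟩ | ⟨-, e⟩
    · exact Or.inr (e ▸ dvd_rfl)
    · exact Or.inl (e ▸ dvd_rfl)
  rcases (show r = p ∨ r = q by
    rcases o3 with e | e | e | e | e
    · exact absurd e hr.ne_one
    · exact absurd e hr2
    · exact Or.inl e
    · exact Or.inr e
    · exact absurd ((Nat.prime_dvd_prime_iff_eq Nat.prime_two hr).1 (e ▸ dvd_mul_right 2 p)).symm hr2)
    with rfl | rfl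
  · exact hpm.elim hrm hrm1
  · exact hqm.elim hrm hrm1

/-- A simple group with at most five automorphism orbits. -/
theorem main [IsSimpleGroup G] (hG : ¬ IsMulCommutative G)
    (h5 : Nat.card (MulAction.orbitRel.Quotient (MulAut G) G) ≤ 5) : Listed G := by
  have hns : ¬ Group.IsSolvable G := fun hs => hG ⟨⟨fun a b =>
    (IsSimpleGroup.comm_iff_isSolvable.2 hs) a b⟩⟩
  by_cases h4 : ∃ g : G, orderOf g = 4
  · obtain ⟨g, hg⟩ := h4
    exact listed_of_four hns h5 hg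
  by_cases h2 : ∃ (g : G) (r : ℕ), r.Prime ∧ r ≠ 2 ∧ orderOf g = 2 * r
  · obtain ⟨g, r, hr, hr2, hg⟩ := h2
    exact listed_of_twoP hG hns h5 hr hr2 hg
  push Not at h4 h2
  exact listed_of_no_even hG h5 h4 h2

end CfsgLib.FiveAut
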