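import Cfsg.Agent.FiveAutOrbits.Basic
import Cfsg.Agent.S0058

/-!
Element orders `1, 2, p, q, 2p` with an involution inverting the odd part of another involution's
centraliser: the Sylow two-subgroups are four-groups and the `p`-locals are `p`-closed.
-/

set_option autoImplicit false
set_option linter.style.haveILetI false
set_option linter.unusedSectionVars false

namespace CfsgLib.FiveAut

open Subgroup

variable {G : Type*} [Group G]

/-- The subgroup generated by the solutions of `xᵖ = 1` commuting with `t`. -/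
def pCent (p : ℕ) (t : G) : Subgroup G := closure {x : G | x ^ p = 1 ∧ Commute t x}

/-- The hypothesis of this file. -/
structure Split (G : Type*) [Group G] (p q : ℕ) : Prop where
  base : TwoP G p q
  comm : ∀ t x y : G, orderOf t = 2 → x ^ p = 1 → y ^ p = 1 → Commute t x → Commute t y → Commute x y
  split : ∃ t s x : G, orderOf t = 2 ∧ s * s = 1 ∧ Commute t s ∧ x ^ p = 1 ∧ Commute t x ∧ ¬ Commute s x

namespace Split

variable {p q : ℕ} (H : Split G p q)
include H

theorem mem_iff {t : G} (ht : orderOf t = 2) {c : G} :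
    c ∈ pCent p t ↔ c ^ p = 1 ∧ Commute t c := by
  refine ⟨fun hc => ?_, fun hc => subset_closure hc⟩
  induction hc using closure_induction with
  | mem x hx => exact hx
  | one => exact ⟨one_pow _, Commute.one_right _⟩
  | mul x y _ _ hx hy =>
    have hxy := H.comm t x y ht hx.1 hy.1 hx.2 hy.2
    exact ⟨by rw [hxy.mul_pow, hx.1, hy.1, one_mul], hx.2.mul_right hy.2⟩
  | inv x _ hx => exact ⟨by rw [inv_pow, hx.1, inv_one], hx.2.inv_right⟩

omit H in
theorem conj_pow_eq_one {x g : G} (hx : x ^ p = 1) : (g * x * g⁻¹) ^ p = 1 := by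
  rw [conj_pow, hx, mul_one, mul_inv_cancel]

omit H in
theorem commute_conj {t s x : G} (hts : Commute t s) (hx : Commute t x) : Commute t (s * x * s⁻¹) :=
  (hts.mul_right hx).mul_right hts.inv_right

theorem eq_one_of_sq {x : G} (hx : x ^ p = 1) (h2 : x * x = 1) : x = 1 := by
  rw [← pow_two] at h2
  simpa [(Nat.coprime_primes Nat.prime_two H.base.pp).2 H.base.p2.symm] using pow_gcd_eq_one.2 ⟨h2, hx⟩

theorem eq_sq_pow {x : G} (hx : x ^ p = 1) : x = (x * x) ^ ((p + 1) / 2) := by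
  rw [← pow_two, ← pow_mul, show 2 * ((p + 1) / 2) = p + 1 by have := H.base.odd_p; omega, pow_succ,
    hx, one_mul]

variable [Finite G]

theorem card_pCent_le {t t' : G} (ht : orderOf t = 2) (ht' : orderOf t' = 2) :
    Nat.card (pCent p t) ≤ Nat.card (pCent p t') := by
  obtain ⟨a, rfl⟩ := H.base.conj t t' (ht.trans ht'.symm)
  rw [← card_map_of_injective (K := pCent p t) (f := a.toMonoidHom) a.injective]
  refine Subgroup.card_le_of_le ?_
  rintro _ ⟨c, hc, rfl⟩
  obtain ⟨h1, h2⟩ := (H.mem_iff ht).1 hc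
  exact subset_closure ⟨by rw [← map_pow, h1, map_one], h2.map a⟩

theorem pCent_eq {t u : G} (ht : orderOf t = 2) (hu : orderOf u = 2)
    (hc : ∀ x ∈ pCent p t, Commute u x) : pCent p t = pCent p u :=
  Subgroup.eq_of_le_of_card_ge
    (fun x hx => subset_closure ⟨((H.mem_iff ht).1 hx).1, hc x hx⟩) (H.card_pCent_le hu ht)

/-- An involution commuting with `t` centralises or inverts the `p`-elements commuting with `t`. -/
theorem centralize_or_invert {t s : G} (ht : orderOf t = 2) (hs : s * s = 1) (hts : Commute t s) :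
    (∀ x ∈ pCent p t, Commute s x) ∨ (∀ x ∈ pCent p t, s * x * s⁻¹ = x⁻¹) := by
  by_contra hno
  simp only [not_or, not_forall] at hno
  obtain ⟨⟨x, hx, hsx⟩, ⟨y, hy, hsy⟩⟩ := hno
  obtain ⟨hxp, htx⟩ := (H.mem_iff ht).1 hx
  obtain ⟨hyp, hty⟩ := (H.mem_iff ht).1 hy
  have hsi : s⁻¹ = s := inv_eq_of_mul_eq_one_left hs
  have hmem : ∀ z, z ∈ pCent p t → s * z * s⁻¹ ∈ pCent p t := fun z hz =>
    subset_closure ⟨conj_pow_eq_one ((H.mem_iff ht).1 hz).1, commute_conj hts ((H.mem_iff ht).1 hz).2⟩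
  have hinvol : ∀ z : G, s * (s * z * s⁻¹) * s⁻¹ = z := fun z => by
    rw [hsi]
    calc s * (s * z * s) * s = (s * s) * z * (s * s) := by group
      _ = z := by rw [hs, one_mul, mul_one]
  have hRc : ∀ a b, a ∈ pCent p t → b ∈ pCent p t → Commute a b := fun a b ha hb =>
    H.comm t a b ht ((H.mem_iff ht).1 ha).1 ((H.mem_iff ht).1 hb).1 ((H.mem_iff ht).1 ha).2
      ((H.mem_iff ht).1 hb).2
  set u := y * (s * y * s⁻¹) with hu
  set v := x * (s * x * s⁻¹)⁻¹ with hv
  have hum : u ∈ pCent p t := mul_mem hy (hmem y hy)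
  have hvm : v ∈ pCent p t := mul_mem hx (inv_mem (hmem x hx))
  have hsu : s * u * s⁻¹ = u := by
    rw [hu, show s * (y * (s * y * s⁻¹)) * s⁻¹ = (s * y * s⁻¹) * (s * (s * y * s⁻¹) * s⁻¹) by group,
      hinvol]
    exact (hRc _ _ hy (hmem y hy)).eq.symm
  have hsv : s * v * s⁻¹ = v⁻¹ := by
    rw [hv, show s * (x * (s * x * s⁻¹)⁻¹) * s⁻¹ = (s * x * s⁻¹) * (s * (s * x * s⁻¹) * s⁻¹)⁻¹ by group,
      hinvol, mul_inv_rev, inv_inv]
  have hu1 : u ≠ 1 := fun e => hsy (eq_inv_of_mul_eq_one_right e)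
  have hv1 : v ≠ 1 := fun e => hsx (mul_inv_eq_iff_eq_mul.1 (mul_inv_eq_one.1 e).symm)
  have hsw : s * (u * v) * s⁻¹ = u * v⁻¹ := by
    rw [show s * (u * v) * s⁻¹ = (s * u * s⁻¹) * (s * v * s⁻¹) by group, hsu, hsv]
  have hwm : u * v ∈ pCent p t := mul_mem hum hvm
  obtain ⟨hup, htu⟩ := (H.mem_iff ht).1 hum
  obtain ⟨hvp, -⟩ := (H.mem_iff ht).1 hvm
  obtain ⟨hwp, htw⟩ := (H.mem_iff ht).1 hwm
  have hnsw : ¬ Commute s (u * v) := fun e => by
    have h1 : u * v = u * v⁻¹ := by rw [← hsw, e.eq, mul_inv_cancel_right]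
    exact hv1 (H.eq_one_of_sq hvp (by
      nth_rewrite 2 [mul_left_cancel h1]
      exact mul_inv_cancel v))
  have hw1 : u * v ≠ 1 := fun e => hnsw (e ▸ Commute.one_right s)
  obtain ⟨a, hat, hau⟩ := H.base.pair_conj ht (H.base.orderOf_eq_p hup hu1) htu ht
    (H.base.orderOf_eq_p hwp hw1) htw
  set K := fun r : G => centralizer ({t} : Set G) ⊓ centralizer ({r} : Set G) with hK
  have hle : (K u).map a.toMonoidHom ≤ K (u * v) := by
    rintro _ ⟨c, hc, rfl⟩
    refine ⟨mem_centralizer_singleton_iff.2 ?_, mem_centralizer_singleton_iff.2 ?_⟩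
    · have := (show Commute c t from mem_centralizer_singleton_iff.1 hc.1).map a
      rw [hat] at this; exact this.eq
    · have := (show Commute c u from mem_centralizer_singleton_iff.1 hc.2).map a
      rw [hau] at this; exact this.eq
  have hge : K (u * v) ≤ K u := by
    intro c hc
    refine ⟨hc.1, mem_centralizer_singleton_iff.2 ?_⟩
    have htc : Commute t c := (mem_centralizer_singleton_iff.1 hc.1).symm
    have hwc : Commute c (u * v) := mem_centralizer_singleton_iff.1 hc.2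
    obtain ⟨h1, h2, he⟩ := H.base.split (H.base.pow_two_p_of_commute_two ht htc)
    set c' := c ^ p with hc'
    have hc2 : Commute (c ^ (p + 1)) u := H.comm t _ _ ht h2 hup (htc.pow_right _) htu
    suffices h3 : Commute c' u by
      show Commute c u
      rw [he]; exact h3.mul_left hc2
    have hc'w : Commute c' (u * v) := hwc.pow_left p
    have hj := H.base.pow_two_p_of_commute_two ht ((htc.pow_right p).mul_right hts)
    rw [pow_mul] at hj
    have hr := H.comm t _ (u * v⁻¹) ht hj ((H.mem_iff ht).1 (mul_mem hum (inv_mem hvm))).1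
      (((htc.pow_right p).mul_right hts).pow_right 2) ((H.mem_iff ht).1 (mul_mem hum (inv_mem hvm))).2
    have hci : c'⁻¹ = c' := inv_eq_of_mul_eq_one_left h1
    have hcs : c' * s = (c' * s) ^ 2 * (s * c') := by
      calc c' * s = (c' * s) * (c' * (s * s) * c') := by rw [hs, mul_one, h1, mul_one]
        _ = (c' * s) ^ 2 * (s * c') := by rw [pow_two]; simp only [mul_assoc]
    have h4 : Commute c' (u * v⁻¹) := by
      refine mul_inv_eq_iff_eq_mul.1 ?_
      calc c' * (u * v⁻¹) * c'⁻¹ = (c' * s) * (u * v) * (c' * s)⁻¹ := by rw [← hsw]; group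
        _ = (c' * s) ^ 2 * (s * (c' * (u * v) * c'⁻¹) * s⁻¹) * ((c' * s) ^ 2)⁻¹ := by
            nth_rewrite 1 [hcs]
            nth_rewrite 2 [hcs]
            group
        _ = u * v⁻¹ := by
            rw [hc'w.eq, mul_inv_cancel_right, hsw, hr.eq, mul_inv_cancel_right]
    have h5 : Commute c' (u * u) := by
      have hvu : Commute v⁻¹ u := (hRc _ _ hvm hum).inv_left
      have e : u * u = (u * v) * (u * v⁻¹) := by
        calc u * u = u * (v * (v⁻¹ * u)) := by group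
          _ = u * v * (u * v⁻¹) := by rw [hvu.eq, ← mul_assoc]
      rw [e]
      exact hc'w.mul_right h4
    rw [H.eq_sq_pow hup]
    exact h5.pow_right _
  have hsK : s ∈ K u := ⟨mem_centralizer_singleton_iff.2 hts.eq.symm,
    mem_centralizer_singleton_iff.2 (mul_inv_eq_iff_eq_mul.1 hsu)⟩
  have heq : K (u * v) = K u := Subgroup.eq_of_le_of_card_ge hge (by
    rw [← card_map_of_injective (K := K u) (f := a.toMonoidHom) a.injective]
    exact Subgroup.card_le_of_le hle)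
  rw [← heq] at hsK
  exact hnsw (mem_centralizer_singleton_iff.1 hsK.2)

theorem mul_self_of_mem_sylow {T : Sylow 2 G} {a : G} (ha : a ∈ (T : Subgroup G)) : a * a = 1 := by
  obtain ⟨k, hk⟩ := T.2 ⟨a, ha⟩
  exact H.base.sq_eq_one_of_pow (k := k) (congrArg Subtype.val hk)

theorem commute_of_mem_sylow {T : Sylow 2 G} {a b : G} (ha : a ∈ (T : Subgroup G))
    (hb : b ∈ (T : Subgroup G)) : Commute a b := by
  have h1 := H.mul_self_of_mem_sylow ha
  have h2 := H.mul_self_of_mem_sylow hb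
  have h3 := H.mul_self_of_mem_sylow (mul_mem ha hb)
  calc a * b = (a * b)⁻¹ := (inv_eq_of_mul_eq_one_right h3).symm
    _ = b * a := by rw [mul_inv_rev, inv_eq_of_mul_eq_one_left h1, inv_eq_of_mul_eq_one_left h2]

omit H in
/-- Two commuting involutions lie in a Sylow two-subgroup. -/
theorem exists_sylow {t s : G} (ht : t * t = 1) (hs : s * s = 1) (hts : Commute t s) :
    ∃ T : Sylow 2 G, t ∈ (T : Subgroup G) ∧ s ∈ (T : Subgroup G) := by
  have key : ∀ c ∈ closure ({t, s} : Set G), c * c = 1 ∧ Commute t c ∧ Commute s c := by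
    intro c hc
    induction hc using closure_induction with
    | mem x hx =>
      rcases hx with rfl | rfl
      exacts [⟨ht, Commute.refl _, hts.symm⟩, ⟨hs, hts, Commute.refl _⟩]
    | one => exact ⟨one_mul _, Commute.one_right _, Commute.one_right _⟩
    | mul x y hxm _ hx hy =>
      refine ⟨?_, hx.2.1.mul_right hy.2.1, hx.2.2.mul_right hy.2.2⟩
      have hy' : Commute x y := by
        have hle : closure ({t, s} : Set G) ≤ centralizer {y} := by
          rw [closure_le]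
          rintro z (rfl | rfl)
          exacts [mem_centralizer_singleton_iff.2 hy.2.1.eq, mem_centralizer_singleton_iff.2 hy.2.2.eq]
        exact mem_centralizer_singleton_iff.1 (hle hxm)
      rw [hy'.symm.mul_mul_mul_comm, hx.1, hy.1, one_mul]
    | inv x _ hx => exact ⟨by rw [← mul_inv_rev, hx.1, inv_one], hx.2.1.inv_right, hx.2.2.inv_right⟩
  have hp : IsPGroup 2 (closure ({t, s} : Set G)) := fun c => ⟨1, Subtype.ext (by
    rw [pow_one, pow_two]; exact (key c c.2).1)⟩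
  obtain ⟨T, hT⟩ := hp.exists_le_sylow
  exact ⟨T, hT (subset_closure (by simp)), hT (subset_closure (by simp))⟩

/-- Three distinct members force a subgroup of a Sylow two-subgroup to have order at least four. -/
theorem four_le {W : Subgroup G} {T : Sylow 2 G} (hW : W ≤ T) {t s : G} (ht : t ∈ W) (hs : s ∈ W)
    (ht1 : t ≠ 1) (hs1 : s ≠ 1) (hts : t ≠ s) : 4 ≤ Nat.card W := by
  classical
  obtain ⟨k, hk⟩ := IsPGroup.iff_card.1 (T.2.to_le hW)
  haveI := Fintype.ofFinite W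
  have h3 : 3 ≤ Nat.card W := by
    rw [Nat.card_eq_fintype_card]
    refine (Finset.card_le_univ ({(1 : W), ⟨t, ht⟩, ⟨s, hs⟩} : Finset W)).trans' ?_
    refine (Finset.card_eq_three.2 ⟨(1 : W), (⟨t, ht⟩ : W), (⟨s, hs⟩ : W), ?_, ?_, ?_, rfl⟩).ge
    · exact fun e => ht1 (congrArg Subtype.val e).symm
    · exact fun e => hs1 (congrArg Subtype.val e).symm
    · exact fun e => hts (congrArg Subtype.val e)
  rcases Nat.lt_or_ge k 2 with hk2 | hk2
  · interval_cases k <;> omega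
  · rw [hk]; exact Nat.pow_le_pow_right two_pos hk2

theorem sylow_data : ∃ (t s : G) (T : Sylow 2 G), orderOf t = 2 ∧ s * s = 1 ∧ Commute t s ∧
    (∀ x ∈ pCent p t, s * x * s⁻¹ = x⁻¹) ∧ (∃ x ∈ pCent p t, ¬ Commute s x) ∧
    t ∈ (T : Subgroup G) ∧ s ∈ (T : Subgroup G) ∧ Nat.card (T : Subgroup G) = 4 := by
  obtain ⟨t, s, x, ht, hs, hts, hxp, htx, hsx⟩ := H.split
  have hxm : x ∈ pCent p t := subset_closure ⟨hxp, htx⟩
  have hinv := (H.centralize_or_invert ht hs hts).resolve_left fun e => hsx (e x hxm)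
  have htt := H.base.mul_self_of_two ht
  obtain ⟨T, htT, hsT⟩ := exists_sylow htt hs hts
  refine ⟨t, s, T, ht, hs, hts, hinv, ⟨x, hxm, hsx⟩, htT, hsT, ?_⟩
  have hs1 : s ≠ 1 := fun e => hsx (e ▸ Commute.one_left x)
  have hst : s ≠ t := fun e => hsx (e ▸ htx)
  have hs2 := H.base.orderOf_eq_two hs hs1
  refine le_antisymm ?_ (H.four_le le_rfl htT hsT (H.base.ne_one_of_two ht) hs1 hst.symm)
  by_contra hgt
  classical
  haveI := Fintype.ofFinite (T : Subgroup G)
  obtain ⟨a, ha⟩ : ∃ a : (T : Subgroup G), a ∉ ({(1 : (T : Subgroup G)), ⟨t, htT⟩, ⟨s, hsT⟩,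
      ⟨t, htT⟩ * ⟨s, hsT⟩} : Finset (T : Subgroup G)) := by
    by_contra hall
    push Not at hall
    have := Finset.card_le_card (show (Finset.univ : Finset (T : Subgroup G)) ⊆ _ from fun a _ => hall a)
    rw [Finset.card_univ, ← Nat.card_eq_fintype_card] at this
    exact hgt (this.trans Finset.card_le_four)
  simp only [Finset.mem_insert, Finset.mem_singleton, not_or] at ha
  obtain ⟨ha1, hat, has, hats⟩ := ha
  have key : ∃ u₁ ∈ (T : Subgroup G), u₁ ≠ 1 ∧ u₁ ≠ t ∧ ∀ x ∈ pCent p t, Commute u₁ x := by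
    rcases H.centralize_or_invert ht (H.mul_self_of_mem_sylow a.2) (H.commute_of_mem_sylow htT a.2)
      with hc | hc
    · exact ⟨a, a.2, fun e => ha1 (Subtype.ext e), fun e => hat (Subtype.ext e), hc⟩
    · refine ⟨(a : G) * s, mul_mem a.2 hsT, fun e => has (Subtype.ext ?_), fun e => hats (Subtype.ext ?_),
        fun z hz => mul_inv_eq_iff_eq_mul.1 ?_⟩
      · show (a : G) = s
        rw [eq_inv_of_mul_eq_one_left e, inv_eq_of_mul_eq_one_left hs]
      · show (a : G) = t * s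
        rw [← e, mul_assoc, hs, mul_one]
      · rw [show (a : G) * s * z * ((a : G) * s)⁻¹ = a * (s * z * s⁻¹) * (a : G)⁻¹ by group, hinv z hz,
          hc _ (inv_mem hz), inv_inv]
  obtain ⟨u₁, hu₁T, hu₁, hu₁t, hu₁c⟩ := key
  have htu : Commute t u₁ := H.commute_of_mem_sylow htT hu₁T
  have htinv : ∀ z ∈ pCent p s, t * z * t⁻¹ = z⁻¹ := by
    refine (H.centralize_or_invert hs2 htt hts.symm).resolve_left fun e => hsx ?_
    rw [← H.pCent_eq hs2 ht e] at hxm
    exact ((H.mem_iff hs2).1 hxm).2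
  have key2 : ∃ u, u ≠ 1 ∧ u * u = 1 ∧ (∀ z ∈ pCent p t, Commute u z) ∧
      ∀ z ∈ pCent p s, Commute u z := by
    rcases H.centralize_or_invert hs2 (H.mul_self_of_mem_sylow hu₁T) (H.commute_of_mem_sylow hsT hu₁T)
      with hc | hc
    · exact ⟨u₁, hu₁, H.mul_self_of_mem_sylow hu₁T, hu₁c, hc⟩
    · refine ⟨t * u₁, fun e => hu₁t ?_, H.mul_self_of_mem_sylow (mul_mem htT hu₁T),
        fun z hz => ((H.mem_iff ht).1 hz).2.mul_left (hu₁c z hz), fun z hz => mul_inv_eq_iff_eq_mul.1 ?_⟩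
      · rw [eq_inv_of_mul_eq_one_right e, inv_eq_of_mul_eq_one_left htt]
      · rw [show t * u₁ * z * (t * u₁)⁻¹ = t * (u₁ * z * u₁⁻¹) * t⁻¹ by group, hc z hz,
          htinv _ (inv_mem hz), inv_inv]
  obtain ⟨u, hu1, huu, hu₂, hu₃⟩ := key2
  have hu := H.base.orderOf_eq_two huu hu1
  rw [H.pCent_eq ht hu hu₂, ← H.pCent_eq hs2 hu hu₃] at hxm
  exact hsx ((H.mem_iff hs2).1 hxm).2

theorem card_sylow (T : Sylow 2 G) : Nat.card (T : Subgroup G) = 4 := by
  haveI : Fact (Nat.Prime 2) := ⟨Nat.prime_two⟩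
  obtain ⟨-, -, T₀, -, -, -, -, -, -, -, h4⟩ := H.sylow_data
  rw [← h4]
  exact Nat.card_congr (T.equiv T₀).toEquiv

/-- No `p`-element centralises two commuting involutions. -/
theorem four_cent {t s x : G} (ht : t * t = 1) (ht1 : t ≠ 1) (hs : s * s = 1) (hs1 : s ≠ 1)
    (hts : Commute t s) (hne : t ≠ s) (hx : x ^ p = 1) (htx : Commute t x) (hsx : Commute s x) :
    x = 1 := by
  haveI : Fact (Nat.Prime 2) := ⟨Nat.prime_two⟩
  obtain ⟨t₀, s₀, T₀, ht₀, -, -, hinv, -, ht₀T, hs₀T, -⟩ := H.sylow_data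
  obtain ⟨T, htT, hsT⟩ := exists_sylow ht hs hts
  have hle : (T : Subgroup G) ≤ centralizer ({x} : Set G) := by
    have h1 : (T : Subgroup G) ⊓ centralizer ({x} : Set G) = T :=
      Subgroup.eq_of_le_of_card_ge inf_le_left (by
        rw [H.card_sylow T]
        exact H.four_le inf_le_left ⟨htT, mem_centralizer_singleton_iff.2 htx.eq⟩
          ⟨hsT, mem_centralizer_singleton_iff.2 hsx.eq⟩ ht1 hs1 hne)
    exact h1 ▸ inf_le_right
  obtain ⟨g, hg⟩ := MulAction.exists_smul_eq G T₀ T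
  have hmem : ∀ a ∈ (T₀ : Subgroup G), Commute a (g⁻¹ * x * g) := by
    intro a ha
    have h1 : g * a * g⁻¹ ∈ (T : Subgroup G) := by
      rw [← hg, Sylow.coe_subgroup_smul]
      exact Subgroup.smul_mem_pointwise_smul a (MulAut.conj g) _ ha
    have h2 : Commute (g * a * g⁻¹) x := mem_centralizer_singleton_iff.1 (hle h1)
    have h3 := h2.map (MulAut.conj g⁻¹)
    simpa [mul_assoc] using h3
  have hz : (g⁻¹ * x * g) ^ p = 1 := by
    have := conj_pow_eq_one (g := g⁻¹) hx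
    rwa [inv_inv] at this
  have h1 := hinv _ (subset_closure ⟨hz, hmem t₀ ht₀T⟩)
  rw [(hmem s₀ hs₀T).eq, mul_inv_cancel_right] at h1
  have h2 := H.eq_one_of_sq hz (eq_inv_iff_mul_eq_one.1 h1)
  calc x = g * (g⁻¹ * x * g) * g⁻¹ := by group
    _ = 1 := by rw [h2]; group

/-- An involution commuting with another one inverts its `p`-elements. -/
theorem invert {t s x : G} (ht : orderOf t = 2) (hs : s * s = 1) (hs1 : s ≠ 1) (hts : Commute t s)
    (hne : t ≠ s) (hx : x ∈ pCent p t) : s * x * s⁻¹ = x⁻¹ := by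
  obtain ⟨hxp, htx⟩ := (H.mem_iff ht).1 hx
  have hcx := commute_conj hts htx
  have hc := H.comm t x _ ht hxp (conj_pow_eq_one hxp) htx hcx
  have hsi : s⁻¹ = s := inv_eq_of_mul_eq_one_left hs
  refine eq_inv_of_mul_eq_one_right (H.four_cent (H.base.mul_self_of_two ht) (H.base.ne_one_of_two ht)
    hs hs1 hts hne (by rw [hc.mul_pow, hxp, conj_pow_eq_one hxp, one_mul]) (htx.mul_right hcx)
    (mul_inv_eq_iff_eq_mul.1 ?_))
  rw [show s * (x * (s * x * s⁻¹)) * s⁻¹ = (s * x * s⁻¹) * (s * (s * x * s⁻¹) * s⁻¹) by group]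
  have h2 : s * (s * x * s⁻¹) * s⁻¹ = x := by
    rw [hsi]
    calc s * (s * x * s) * s = (s * s) * x * (s * s) := by group
      _ = x := by rw [hs, one_mul, mul_one]
  rw [h2]
  exact hc.eq.symm

/-- In a `p`-local every element normalising a Sylow two-subgroup centralises it. -/
theorem local_centralizes {D : Subgroup G} (hD : IsPGroup p D) (hD1 : D ≠ ⊥) {T : Subgroup G}
    (hTD : T ≤ normalizer (D : Set G)) (hTp : IsPGroup 2 T)
    (hmax : ∀ U : Subgroup G, IsPGroup 2 U → T ≤ U → U ≤ normalizer (D : Set G) → U = T)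
    {g : G} (hgD : g ∈ normalizer (D : Set G)) (hgT : g ∈ normalizer (T : Set G)) :
    ∀ c ∈ T, Commute c g := by
  classical
  haveI : Fact (Nat.Prime 2) := ⟨Nat.prime_two⟩
  haveI := Fact.mk H.base.pp
  obtain ⟨Ts, hTs⟩ := hTp.exists_le_sylow
  have hTc : ∀ a ∈ T, ∀ b ∈ T, Commute a b := fun a ha b hb => H.commute_of_mem_sylow (hTs ha) (hTs hb)
  by_contra hne
  push Not at hne
  obtain ⟨v, hvT, hgv⟩ := hne
  -- replace `g` by an element of prime order
  obtain ⟨y, hyD, hyT, hyo, hyv⟩ : ∃ y ∈ normalizer (D : Set G), y ∈ normalizer (T : Set G) ∧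
      (orderOf y = p ∨ orderOf y = q) ∧ ¬ Commute v y := by
    have key : ∀ a : G, a ∈ normalizer (D : Set G) → a ∈ normalizer (T : Set G) → a * a = 1 →
        Commute v a := by
      intro a haD haT ha
      have hp2 : IsPGroup 2 (zpowers a) := by
        intro b
        refine ⟨1, ?_⟩
        obtain ⟨k, hk⟩ := b.2
        refine Subtype.ext ?_
        rw [SubgroupClass.coe_pow, ← hk, pow_one, ← zpow_natCast, ← zpow_mul, mul_comm, zpow_mul,
          zpow_natCast, pow_two, ha, one_zpow]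
        rfl
      have hU : IsPGroup 2 (zpowers a ⊔ T : Subgroup G) :=
        hp2.to_sup_of_normal_right' hTp (zpowers_le.2 haT)
      have := hmax _ hU le_sup_right (sup_le (zpowers_le.2 haD) hTD)
      exact hTc v hvT a (this ▸ mem_sup_left (mem_zpowers a))
    rcases H.base.ord g with e | e | e | e | e
    · exact absurd (orderOf_eq_one_iff.1 e ▸ Commute.one_right v) hgv
    · exact absurd (key g hgD hgT (H.base.mul_self_of_two e)) hgv
    · exact ⟨g, hgD, hgT, Or.inl e, hgv⟩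
    · exact ⟨g, hgD, hgT, Or.inr e, hgv⟩
    · obtain ⟨h1, h2, he⟩ := H.base.split (e ▸ pow_orderOf_eq_one g : g ^ (2 * p) = 1)
      have h3 : ¬ Commute v (g ^ (p + 1)) := fun hc => hgv (by
        rw [he]; exact (key _ (pow_mem hgD _) (pow_mem hgT _) h1).mul_right hc)
      exact ⟨g ^ (p + 1), pow_mem hgD _, pow_mem hgT _,
        Or.inl (H.base.orderOf_eq_p h2 fun e => h3 (e ▸ Commute.one_right v)), h3⟩
  have hTmul : ∀ a ∈ T, a * a = 1 := fun a ha => H.mul_self_of_mem_sylow (hTs ha)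
  -- the conjugation permutes the three involutions
  haveI := Fintype.ofFinite T
  have hcard4 : Nat.card T ≤ 4 := H.card_sylow Ts ▸ Subgroup.card_le_of_le hTs
  let σ : Equiv.Perm T := (T.normalizerMonoidHom ⟨y, hyT⟩).toEquiv
  have hσv : σ ⟨v, hvT⟩ ≠ ⟨v, hvT⟩ := fun e =>
    hyv (mul_inv_eq_iff_eq_mul.1 (congrArg Subtype.val e : y * v * y⁻¹ = v)).symm
  have hσ1 : σ 1 = 1 := map_one (T.normalizerMonoidHom ⟨y, hyT⟩)
  have hpow : ∀ n : ℕ, ∀ a : T, ((σ ^ n) a : G) = y ^ n * a * (y ^ n)⁻¹ := by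
    intro n
    induction n with
    | zero => simp
    | succ n ih =>
      intro a
      rw [pow_succ', Equiv.Perm.mul_apply]
      show y * ((σ ^ n) a : G) * y⁻¹ = _
      rw [ih, pow_succ']
      group
  have hord : ∃ r, r.Prime ∧ r ≠ 2 ∧ orderOf y = r := by
    rcases hyo with e | e
    exacts [⟨p, H.base.pp, H.base.p2, e⟩, ⟨q, H.base.qq, H.base.q2, e⟩]
  obtain ⟨r, hr, hr2, hyr⟩ := hord
  haveI := Fact.mk hr
  have hσr : σ ^ r ^ 1 = 1 := Equiv.ext fun a => Subtype.ext (by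
    rw [pow_one, hpow, ← hyr, pow_orderOf_eq_one, one_mul, inv_one, mul_one]; rfl)
  -- the support is a union of `r`-cycles avoiding `1`
  have hsupp : r ∣ σ.support.card ∧ σ.support.card ≤ 3 ∧ σ.support.card ≠ 0 := by
    refine ⟨?_, ?_, Finset.card_ne_zero.2 ⟨⟨v, hvT⟩, Equiv.Perm.mem_support.2 hσv⟩⟩
    · have h1 := Equiv.Perm.card_compl_support_modEq hσr
      rw [Finset.card_compl] at h1
      have h2 := Finset.card_le_univ σ.support
      have h3 := (Nat.modEq_iff_dvd' (Nat.sub_le _ _)).1 h1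
      rwa [Nat.sub_sub_self h2] at h3
    · have h1 : σ.support ⊆ Finset.univ.erase 1 := fun a ha =>
        Finset.mem_erase.2 ⟨fun e => Equiv.Perm.mem_support.1 ha (e ▸ hσ1), Finset.mem_univ _⟩
      have h2 := Finset.card_le_card h1
      rw [Finset.card_erase_of_mem (Finset.mem_univ _), Finset.card_univ, ← Nat.card_eq_fintype_card]
        at h2
      omega
  have hr3 : r = 3 := by
    have h1 := Nat.le_of_dvd (Nat.pos_of_ne_zero hsupp.2.2) hsupp.1
    have h2 := hr.two_le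
    omega
  subst hr3
  have hy3 : y ^ 3 = 1 := hyr ▸ pow_orderOf_eq_one y
  -- norms over `⟨y⟩` vanish on the centre of `D`
  haveI : Nontrivial D := D.nontrivial_iff_ne_bot.2 hD1
  haveI := hD.center_nontrivial
  obtain ⟨d₀, hd₀⟩ := exists_ne (1 : center D)
  set A : Subgroup G := (center D).map D.subtype with hA
  have hAD : A ≤ D := map_subtype_le _
  have hAc : ∀ a ∈ A, ∀ b ∈ D, Commute a b := by
    rintro _ ⟨a, ha, rfl⟩ b hb
    exact congrArg Subtype.val (mem_center_iff.1 ha ⟨b, hb⟩).symm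
  have hAn : normalizer (D : Set G) ≤ normalizer (A : Set G) := fun g hg => by
    haveI := Fintype.ofFinite A
    refine Subgroup.mem_normalizer_fintype fun a ha => ?_
    refine ⟨⟨g * a * g⁻¹, (mem_normalizer_iff.1 hg a).1 (hAD ha)⟩, mem_center_iff.2 fun b => ?_, rfl⟩
    have hb : g⁻¹ * b * g ∈ D := by simpa using (mem_normalizer_iff.1 (inv_mem hg) (b : G)).1 b.2
    have h1 := ((hAc a ha _ hb).map (MulAut.conj g)).eq
    exact Subtype.ext (by simpa [mul_assoc] using h1.symm)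
  have hDp : ∀ a ∈ D, a ^ p = 1 := fun a ha => by
    obtain ⟨k, hk⟩ := hD ⟨a, ha⟩
    exact H.base.pow_prime_eq_one (k := k) (Or.inl rfl) (congrArg Subtype.val hk)
  haveI : IsMulCommutative A := ⟨⟨fun a b => Subtype.ext (hAc a a.2 b (hAD b.2))⟩⟩
  -- a fixed point of some involution of `T`
  set w := y * v * y⁻¹ with hw
  have hwT : w ∈ T := (mem_normalizer_iff.1 hyT v).1 hvT
  have hv1 : v ≠ 1 := fun e => hyv (e ▸ Commute.one_left y)
  have hw1 : w ≠ 1 := fun e => hv1 (conj_eq_one_iff.1 e)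
  have hwv : v ≠ w := fun e => hyv (mul_inv_eq_iff_eq_mul.1 e.symm).symm
  have hfix : ∃ v' ∈ T, v' ≠ 1 ∧ ∃ d ∈ A, d ≠ 1 ∧ Commute v' d := by
    have hd₀A : ((d₀ : D) : G) ∈ A := ⟨d₀, d₀.2, rfl⟩
    have hd₀1 : ((d₀ : D) : G) ≠ 1 := fun e => hd₀ (Subtype.ext (Subtype.ext e))
    by_contra hno
    push Not at hno
    have hinv : ∀ u ∈ T, u ≠ 1 → ∀ a ∈ A, u * a * u⁻¹ = a⁻¹ := by
      intro u hu hu1 a ha
      refine eq_inv_of_mul_eq_one_right ?_
      by_contra hne
      have hua := (mem_normalizer_iff.1 (hAn (hTD hu)) a).1 ha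
      refine hno u hu hu1 _ (mul_mem ha hua) hne (mul_inv_eq_iff_eq_mul.1 ?_)
      rw [show u * (a * (u * a * u⁻¹)) * u⁻¹ = (u * a * u⁻¹) * ((u * u) * a * (u * u)⁻¹) by group,
        hTmul u hu, one_mul, inv_one, mul_one]
      exact (hAc a ha _ (hAD hua)).eq.symm
    refine hno (v * w) (mul_mem hvT hwT) (fun e => hwv ?_) _ hd₀A hd₀1 (mul_inv_eq_iff_eq_mul.1 ?_)
    · rw [eq_inv_of_mul_eq_one_left e, inv_eq_of_mul_eq_one_left (hTmul w hwT)]
    · rw [show v * w * ((d₀ : D) : G) * (v * w)⁻¹ = v * (w * ((d₀ : D) : G) * w⁻¹) * v⁻¹ by group,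
        hinv w hwT hw1 _ hd₀A, hinv v hvT hv1 _ (inv_mem hd₀A), inv_inv]
  obtain ⟨v', hv'T, hv'1, d, hdA, hd1, hv'd⟩ := hfix
  have hy' : ∀ u ∈ T, u ≠ 1 → ¬ Commute u y := by
    intro u hu hu1 hc
    have h1 : σ ⟨u, hu⟩ = ⟨u, hu⟩ := Subtype.ext (by
      show y * u * y⁻¹ = u
      rw [hc.eq.symm, mul_inv_cancel_right])
    have h2 : σ.support ⊆ (Finset.univ.erase 1).erase ⟨u, hu⟩ := fun a ha => by
      refine Finset.mem_erase.2 ⟨?_, Finset.mem_erase.2 ⟨?_, Finset.mem_univ _⟩⟩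
      · rintro rfl; exact Equiv.Perm.mem_support.1 ha h1
      · rintro rfl; exact Equiv.Perm.mem_support.1 ha hσ1
    have h3 := Finset.card_le_card h2
    rw [Finset.card_erase_of_mem (Finset.mem_erase.2 ⟨fun e => hu1 (congrArg Subtype.val e),
        Finset.mem_univ _⟩), Finset.card_erase_of_mem (Finset.mem_univ _), Finset.card_univ,
      ← Nat.card_eq_fintype_card] at h3
    have := Nat.le_of_dvd (Nat.pos_of_ne_zero hsupp.2.2) hsupp.1
    omega
  have hd3 : (d * y) ^ 3 = 1 := by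
    rcases hyo with e | e
    · have hp3 : p = 3 := e.symm.trans hyr
      have hp2 : IsPGroup p (zpowers y) := IsPGroup.of_card (n := 1) (by rw [Nat.card_zpowers, pow_one, e])
      have hDy : IsPGroup p (zpowers y ⊔ D : Subgroup G) :=
        hp2.to_sup_of_normal_right' hD (zpowers_le.2 hyD)
      obtain ⟨k, hk⟩ := hDy ⟨d * y, mul_mem (mem_sup_right (hAD hdA)) (mem_sup_left (mem_zpowers y))⟩
      exact hp3 ▸ H.base.pow_prime_eq_one (k := k) (Or.inl rfl) (congrArg Subtype.val hk)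
    · exact mul_pow_eq_one (hAn hyD) hdA hy3
        (fun b hb hc => H.base.eq_one_of_commute_q e hc.symm (Or.inr (hDp b (hAD hb))))
  set e₁ := y * d * y⁻¹ with he₁
  set e₂ := y * e₁ * y⁻¹ with he₂
  have hdef : d * e₁ * e₂ = 1 := by
    have : (d * y) ^ 3 = d * e₁ * e₂ * y ^ 3 := by
      rw [he₂, he₁]; simp only [pow_succ, pow_zero, one_mul]; group
    rw [hd3, hy3, mul_one] at this
    exact this.symm
  have hv'2 := hTmul v' hv'T
  have hinv' : ∀ u ∈ T, ∀ e ∈ A, u ≠ v' → u ≠ 1 → Commute u e → v' * e * v'⁻¹ = e⁻¹ := by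
    intro u hu e he hne hu1 hue
    have hev := (mem_normalizer_iff.1 (hAn (hTD hv'T)) e).1 he
    have hc : Commute e (v' * e * v'⁻¹) := hAc e he _ (hAD hev)
    refine eq_inv_of_mul_eq_one_right (H.four_cent hv'2 hv'1 (hTmul u hu) hu1 (hTc v' hv'T u hu)
      hne.symm (hDp _ (hAD (mul_mem he hev))) (mul_inv_eq_iff_eq_mul.1 ?_)
      (hue.mul_right (commute_conj (hTc u hu v' hv'T) hue)))
    rw [show v' * (e * (v' * e * v'⁻¹)) * v'⁻¹ = (v' * e * v'⁻¹) * ((v' * v') * e * (v' * v')⁻¹) by group,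
      hv'2, one_mul, inv_one, mul_one]
    exact hc.eq.symm
  have he₁A : e₁ ∈ A := (mem_normalizer_iff.1 (hAn hyD) d).1 hdA
  have he₂A : e₂ ∈ A := (mem_normalizer_iff.1 (hAn hyD) e₁).1 he₁A
  set u₁ := y * v' * y⁻¹ with hu₁
  set u₂ := y * u₁ * y⁻¹ with hu₂
  have hu₁T : u₁ ∈ T := (mem_normalizer_iff.1 hyT v').1 hv'T
  have hu₂T : u₂ ∈ T := (mem_normalizer_iff.1 hyT u₁).1 hu₁T
  have h1 := hinv' u₁ hu₁T e₁ he₁A (fun e => hy' v' hv'T hv'1 (mul_inv_eq_iff_eq_mul.1 e).symm)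
    (fun e => hv'1 (conj_eq_one_iff.1 e)) (hv'd.map (MulAut.conj y))
  have hu₂v : u₂ ≠ v' := fun e => by
    refine hy' v' hv'T hv'1 ?_
    have hc2 : Commute (y ^ 2) v' := by
      refine mul_inv_eq_iff_eq_mul.1 ?_
      rw [show y ^ 2 * v' * (y ^ 2)⁻¹ = u₂ by rw [hu₂, hu₁, pow_two]; group, e]
    have := (hc2.pow_left 2).symm
    rwa [← pow_mul, show 2 * 2 = 3 + 1 from rfl, pow_succ, hy3, one_mul] at this
  have h2 := hinv' u₂ hu₂T e₂ he₂A hu₂v (fun e => hv'1 (conj_eq_one_iff.1 (conj_eq_one_iff.1 e)))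
    ((hv'd.map (MulAut.conj y)).map (MulAut.conj y))
  have h3 : d * e₁⁻¹ * e₂⁻¹ = 1 := by
    have h4 : v' * d * v'⁻¹ = d := by rw [hv'd.eq, mul_inv_cancel_right]
    calc d * e₁⁻¹ * e₂⁻¹ = (v' * d * v'⁻¹) * (v' * e₁ * v'⁻¹) * (v' * e₂ * v'⁻¹) := by rw [h1, h2, h4]
      _ = v' * (d * e₁ * e₂) * v'⁻¹ := by group
      _ = 1 := by rw [hdef]; group
  refine hd1 (H.eq_one_of_sq (hDp d (hAD hdA)) ?_)
  have e5 : e₁ * e₂ = d⁻¹ := eq_inv_of_mul_eq_one_right (by rw [← mul_assoc]; exact hdef)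
  have e6 : e₁⁻¹ * e₂⁻¹ = d⁻¹ := eq_inv_of_mul_eq_one_right (by rw [← mul_assoc]; exact h3)
  have hc12 : Commute e₁⁻¹ e₂⁻¹ := (hAc e₁ he₁A e₂ (hAD he₂A)).inv_inv
  have e7 : d⁻¹ = d := by
    nth_rewrite 1 [← e6]
    rw [hc12.eq, ← mul_inv_rev, e5, inv_inv]
  nth_rewrite 1 [← e7]
  exact inv_mul_cancel d

/-- `p`-locals are `p`-closed. -/
theorem exists_pCore {D : Subgroup G} (hD : IsPGroup p D) (hD1 : D ≠ ⊥) :
    ∃ E : Subgroup G, IsPGroup p E ∧
      ∀ x ∈ normalizer (D : Set G), x ^ p = 1 → x ∈ E := by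
  classical
  haveI : Fact (Nat.Prime 2) := ⟨Nat.prime_two⟩
  haveI := Fact.mk H.base.pp
  set K := normalizer (D : Set G) with hK
  obtain ⟨T⟩ := (inferInstance : Nonempty (Sylow 2 K))
  have hNC : normalizer ((T : Subgroup K) : Set K) ≤ centralizer ((T : Subgroup K) : Set K) := by
    intro g hg
    have hgT : (g : G) ∈ normalizer ((T : Subgroup K).map K.subtype : Set G) :=
      le_normalizer_map K.subtype ⟨g, hg, rfl⟩
    refine mem_centralizer_iff.2 fun c hc => Subtype.ext ?_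
    exact (H.local_centralizes hD hD1 (map_subtype_le _) (T.2.map _) (fun U hU hTU hUK => by
      have h1 : (T : Subgroup K) ≤ U.subgroupOf K := fun c hc => hTU ⟨c, hc, rfl⟩
      have h2 := T.is_maximal' (hU.of_equiv (subgroupOfEquivOfLe hUK).symm) h1
      rw [← h2, map_subgroupOf_eq_of_le hUK]) g.2 hgT c ⟨c, hc, rfl⟩).eq
  have hcomp := MonoidHom.ker_transferSylow_isComplement' T hNC
  set O : Subgroup G := (MonoidHom.transferSylow T hNC).ker.map K.subtype with hO
  have hOK : O ≤ K := map_subtype_le _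
  have hKO : K ≤ normalizer (O : Set G) := by
    refine (normal_subgroupOf_iff_le_normalizer hOK).1 ?_
    rw [hO, subgroupOf, comap_map_eq_self_of_injective K.subtype_injective]
    exact MonoidHom.normal_ker _
  have hOmem : ∀ x ∈ K, ¬ 2 ∣ orderOf x → x ∈ O := by
    intro x hxK hx
    refine ⟨⟨x, hxK⟩, ?_, rfl⟩
    rw [SetLike.mem_coe, MonoidHom.mem_ker, ← orderOf_eq_one_iff]
    obtain ⟨k, hk⟩ := IsPGroup.iff_orderOf.1 T.2 (MonoidHom.transferSylow T hNC ⟨x, hxK⟩)
    have hd : orderOf (MonoidHom.transferSylow T hNC ⟨x, hxK⟩) ∣ orderOf x :=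
      (Subgroup.orderOf_mk x hxK) ▸ orderOf_map_dvd _ _
    rw [hk] at hd ⊢
    rcases Nat.eq_zero_or_pos k with rfl | hk0
    · exact pow_zero 2
    · exact absurd ((dvd_pow_self 2 hk0.ne').trans hd) hx
  have hOodd : ∀ x ∈ O, ¬ 2 ∣ orderOf x := by
    intro x hx h2
    have hd : orderOf x ∣ Nat.card (MonoidHom.transferSylow T hNC).ker := by
      rw [← card_map_of_injective (f := K.subtype) K.subtype_injective, ← hO,
        ← Subgroup.orderOf_mk x hx]
      exact orderOf_dvd_natCard _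
    have h3 := MonoidHom.not_dvd_card_ker_transferSylow T hNC
    exact h3 (h2.trans hd)
  have hodd : ∀ {x : G}, x ^ p = 1 → ¬ 2 ∣ orderOf x := fun {x} hx h2 =>
    H.base.p2 ((Nat.prime_dvd_prime_iff_eq Nat.prime_two H.base.pp).1
      (h2.trans (orderOf_dvd_of_pow_eq_one hx))).symm
  have hDO : D ≤ O := fun x hx => hOmem x (le_normalizer hx) (hodd (by
    obtain ⟨k, hk⟩ := hD ⟨x, hx⟩
    exact H.base.pow_prime_eq_one (k := k) (Or.inl rfl) (congrArg Subtype.val hk)))
  -- a maximal normal `p`-subgroup of `O` above `D`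
  obtain ⟨E, ⟨hDE, hEO, hOE, hEp⟩, hmax⟩ := Set.Finite.exists_maximal
    (Set.toFinite {E : Subgroup G | D ≤ E ∧ E ≤ O ∧ O ≤ normalizer (E : Set G) ∧ IsPGroup p E})
    ⟨D, le_rfl, hDO, hOK, hD⟩
  refine ⟨E, hEp, fun x hxK hx => ?_⟩
  by_contra hxE
  have hxO := hOmem x hxK (hodd hx)
  obtain ⟨r, N, hr, hEN, hNO, hON, hNr, g, hgN, hgE⟩ := H.base.exists_layer hEO hOE hxO hxE
    (fun g hg => by rw [H.base.pow_two_or_odd (hOodd g hg)]; exact E.one_mem)
  rcases hr with hre | hre <;> rw [hre] at hNr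
  · refine hgE (hmax ⟨hDE.trans hEN, hNO, hON, fun g => ?_⟩ hEN hgN)
    obtain ⟨k, hk⟩ := hEp ⟨_, hNr g g.2⟩
    refine ⟨k + 1, Subtype.ext ?_⟩
    rw [SubgroupClass.coe_pow, pow_succ', pow_mul]
    exact congrArg Subtype.val hk
  haveI := Fact.mk H.base.qq
  have hxN : x ∉ N := fun e => by
    obtain ⟨j, -, hj⟩ := Nat.exists_mul_mod_eq_one_of_coprime
      ((Nat.coprime_primes H.base.qq H.base.pp).2 H.base.pq.symm) H.base.pp.one_lt
    refine hxE ?_
    have h2 := pow_mem (hNr x e) j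
    rwa [← pow_mul, pow_eq_pow_mod _ hx, hj, pow_one] at h2
  obtain ⟨Y⟩ := (inferInstance : Nonempty (Sylow q N))
  obtain ⟨m, hmO, hmN, hm, hmY⟩ := H.base.exists_in_normalizer hNO hON Y (Or.inl rfl) hxO hxN hx
  set YG := (Y : Subgroup N).map N.subtype with hYG
  have hYO : YG ≤ O := (map_subtype_le _).trans hNO
  haveI : Nontrivial E := E.nontrivial_iff_ne_bot.2 fun e => hD1 (eq_bot_iff.2 (e ▸ hDE))
  haveI := hEp.center_nontrivial
  obtain ⟨e₀, he₀⟩ := exists_ne (1 : center E)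
  set A : Subgroup G := (center E).map E.subtype with hA
  have hAE : A ≤ E := map_subtype_le _
  have hAc : ∀ a ∈ A, ∀ b ∈ E, Commute a b := by
    rintro _ ⟨a, ha, rfl⟩ b hb
    exact congrArg Subtype.val (mem_center_iff.1 ha ⟨b, hb⟩).symm
  have hAn : normalizer (E : Set G) ≤ normalizer (A : Set G) := fun g hg => by
    haveI := Fintype.ofFinite A
    refine Subgroup.mem_normalizer_fintype fun a ha => ?_
    refine ⟨⟨g * a * g⁻¹, (mem_normalizer_iff.1 hg a).1 (hAE ha)⟩, mem_center_iff.2 fun b => ?_, rfl⟩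
    have hb : g⁻¹ * b * g ∈ E := by simpa using (mem_normalizer_iff.1 (inv_mem hg) (b : G)).1 b.2
    have h1 := ((hAc a ha _ hb).map (MulAut.conj g)).eq
    exact Subtype.ext (by simpa [mul_assoc] using h1.symm)
  haveI : IsMulCommutative A := ⟨⟨fun a b => Subtype.ext (hAc a a.2 b (hAE b.2))⟩⟩
  have hm1 : m ≠ 1 := fun e => H.base.pp.ne_one (by rw [← hm, e, orderOf_one])
  have hYq : ∀ b ∈ YG, b ≠ 1 → orderOf b = q := fun b hb hb1 => by
    obtain ⟨k, hk⟩ := (Y.2.map N.subtype) ⟨b, hb⟩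
    exact orderOf_eq_prime (H.base.pow_prime_eq_one (k := k) (Or.inr rfl) (congrArg Subtype.val hk)) hb1
  have hexp : ∀ m' ∈ normalizer (E : Set G), m' ^ p = 1 → ∀ a ∈ A, (a * m') ^ p = 1 := by
    intro m' hm' hm'p a ha
    have hpz : IsPGroup p (zpowers m') := fun b => ⟨1, Subtype.ext (by
      obtain ⟨k, hk⟩ := b.2
      rw [SubgroupClass.coe_pow, ← hk, pow_one, ← zpow_natCast, ← zpow_mul, mul_comm, zpow_mul,
        zpow_natCast, hm'p, one_zpow]; rfl)⟩
    obtain ⟨k, hk⟩ := (hpz.to_sup_of_normal_right' hEp (zpowers_le.2 hm'))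
      ⟨a * m', mul_mem (mem_sup_right (hAE ha)) (mem_sup_left (mem_zpowers m'))⟩
    exact H.base.pow_prime_eq_one (k := k) (Or.inl rfl) (congrArg Subtype.val hk)
  have hcop : (Nat.card YG).Coprime (Nat.card A) := by
    obtain ⟨a, ha⟩ := IsPGroup.iff_card.1 (Y.2.map N.subtype)
    obtain ⟨b, hb⟩ := IsPGroup.iff_card.1 (hEp.to_le hAE)
    rw [ha, hb]
    exact ((Nat.coprime_primes H.base.qq H.base.pp).2 H.base.pq.symm).pow a b
  have hY := centralizes (A := A) (hYO.trans (hOE.trans hAn)) H.base.pp (x := m) (hAn (hOE hmO)) hmY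
    (hm ▸ pow_orderOf_eq_one m)
    (fun b hb hc => by
      by_contra hb1
      exact hm1 (H.base.eq_one_of_commute_q (hYq b hb hb1) hc (Or.inr (hm ▸ pow_orderOf_eq_one m))))
    hcop
    (fun b hb a ha => hexp _ (mul_mem (mul_mem (hOE (hYO hb)) (hOE hmO)) (inv_mem (hOE (hYO hb))))
      (conj_pow_eq_one (hm ▸ pow_orderOf_eq_one m)) a ha)
  have hgE' : orderOf g = q := by
    have hcase : orderOf g ∣ q := by
      have h1 := H.base.pow_two_or_odd (hOodd g (hNO hgN))
      obtain ⟨k, hk⟩ := hEp ⟨_, hNr g hgN⟩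
      have h2 : (g ^ q) ^ p = 1 := H.base.pow_prime_eq_one (k := k) (Or.inl rfl) (congrArg Subtype.val hk)
      rcases H.base.ord g with e | e | e | e | e
      · rw [e]; exact one_dvd _
      · exact absurd (e ▸ dvd_rfl) (hOodd g (hNO hgN))
      · exfalso
        obtain ⟨j, -, hj⟩ := Nat.exists_mul_mod_eq_one_of_coprime
          ((Nat.coprime_primes H.base.qq H.base.pp).2 H.base.pq.symm) H.base.pp.one_lt
        refine hgE ?_
        have h3 := pow_mem (hNr g hgN) j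
        rwa [← pow_mul, pow_eq_pow_mod _ (e ▸ pow_orderOf_eq_one g : g ^ p = 1), hj, pow_one] at h3
      · rw [e]
      · exact absurd (e ▸ dvd_mul_right 2 p) (hOodd g (hNO hgN))
    rcases (Nat.dvd_prime H.base.qq).1 hcase with e | e
    · exact absurd (orderOf_eq_one_iff.1 e) fun e' => hgE (e' ▸ E.one_mem)
    · exact e
  have hqN : q ∣ Nat.card N := hgE' ▸ (Subgroup.orderOf_mk g hgN) ▸ orderOf_dvd_natCard _
  obtain ⟨b, hb⟩ := exists_prime_orderOf_dvd_card' q (Y.dvd_card_of_dvd_card hqN)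
  have hbG : ((b : N) : G) ∈ YG := ⟨(b : N), b.2, rfl⟩
  have hbq : orderOf ((b : N) : G) = q := by rw [Subgroup.orderOf_coe, Subgroup.orderOf_coe, hb]
  have he₀A : ((e₀ : E) : G) ∈ A := ⟨e₀, e₀.2, rfl⟩
  refine he₀ (Subtype.ext (Subtype.ext (H.base.eq_one_of_commute_q hbq (hY _ hbG _ he₀A).symm
    (Or.inr ?_))))
  obtain ⟨k, hk⟩ := hEp ⟨_, (e₀ : E).2⟩
  exact H.base.pow_prime_eq_one (k := k) (Or.inl rfl) (congrArg Subtype.val hk)

end Split

end CfsgLib.FiveAut
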