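import Cfsg.Agent.FiveAutOrbits.Basic
import Cfsg.Agent.S0204
import Cfsg.Agent.S0058
import Cfsg.Agent.CITGroups.CNReduce

/-!
Element orders `1, 2, p, q, 2p` with the involutions of every involution centraliser commuting:
no simple group.
-/

set_option autoImplicit false
set_option linter.style.haveILetI false
set_option linter.unusedSectionVars false

namespace CfsgLib.FiveAut

open Subgroup
open scoped IsMulCommutative

/-- In a finite cyclic group the solutions of `bᵖ = 1` form the subgroup of order `p`. -/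
theorem mem_zpowers_of_cyclic {C : Type*} [Group C] [Finite C] [IsCyclic C] {p : ℕ} (hp : 0 < p)
    {a b : C} (ha : orderOf a = p) (hb : b ^ p = 1) : b ∈ zpowers a := by
  classical
  haveI := Fintype.ofFinite C
  by_contra hn
  have hle := IsCyclic.card_pow_eq_one_le (α := C) hp
  have hsub : insert b ((Finset.range p).image fun i => a ^ i) ⊆
      (Finset.univ.filter fun c : C => c ^ p = 1) := fun c hc => by
    simp only [Finset.mem_insert, Finset.mem_image] at hc
    refine Finset.mem_filter.2 ⟨Finset.mem_univ _, ?_⟩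
    rcases hc with rfl | ⟨i, -, rfl⟩
    · exact hb
    · rw [← pow_mul, mul_comm, pow_mul, ← ha, pow_orderOf_eq_one, one_pow]
  have hc := (Finset.card_le_card hsub).trans hle
  rw [Finset.card_insert_of_notMem, Finset.card_image_of_injOn, Finset.card_range] at hc
  · omega
  · intro i hi j hj hij
    exact pow_injOn_Iio_orderOf (by simpa [ha] using hi) (by simpa [ha] using hj) hij
  · simp only [Finset.mem_image, not_exists, not_and]
    exact fun i _ e => hn (e ▸ npow_mem_zpowers a i)

variable {G : Type*} [Group G]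

/-- The subgroup generated by the square roots of one commuting with `t`. -/
def invCent (t : G) : Subgroup G := closure {c : G | c * c = 1 ∧ Commute t c}

/-- An involution inverts its product with another one. -/
theorem conj_invol_mul {a b : G} (ha : a * a = 1) (hb : b * b = 1) :
    a * (a * b) * a⁻¹ = (a * b)⁻¹ := by
  rw [mul_inv_rev, inv_eq_of_mul_eq_one_left ha, inv_eq_of_mul_eq_one_left hb, ← mul_assoc, ha, one_mul]

/-- The hypothesis of this file. -/
structure TI (G : Type*) [Group G] (p q : ℕ) : Prop where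
  base : TwoP G p q
  comm : ∀ t u v : G, orderOf t = 2 → u * u = 1 → v * v = 1 → Commute t u → Commute t v → Commute u v

namespace TI

variable {p q : ℕ} (H : TI G p q)
include H

theorem mem_iff {t : G} (ht : orderOf t = 2) {c : G} :
    c ∈ invCent t ↔ c * c = 1 ∧ Commute t c := by
  refine ⟨fun hc => ?_, fun hc => subset_closure hc⟩
  induction hc using closure_induction with
  | mem x hx => exact hx
  | one => exact ⟨one_mul _, Commute.one_right _⟩
  | mul x y _ _ hx hy =>
    have hxy := H.comm t x y ht hx.1 hy.1 hx.2 hy.2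
    exact ⟨by rw [hxy.symm.mul_mul_mul_comm, hx.1, hy.1, one_mul], hx.2.mul_right hy.2⟩
  | inv x _ hx => exact ⟨by rw [← mul_inv_rev, hx.1, inv_one], hx.2.inv_right⟩

theorem self_mem {t : G} (ht : orderOf t = 2) : t ∈ invCent t :=
  (H.mem_iff ht).2 ⟨H.base.mul_self_of_two ht, Commute.refl _⟩

theorem commute_mem {t : G} (ht : orderOf t = 2) {u v : G} (hu : u ∈ invCent t) (hv : v ∈ invCent t) :
    Commute u v :=
  H.comm t u v ht ((H.mem_iff ht).1 hu).1 ((H.mem_iff ht).1 hv).1 ((H.mem_iff ht).1 hu).2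
    ((H.mem_iff ht).1 hv).2

theorem invCent_eq {t u : G} (ht : orderOf t = 2) (hu : u ∈ invCent t) (hu2 : orderOf u = 2) :
    invCent u = invCent t := by
  obtain ⟨huu, htu⟩ := (H.mem_iff ht).1 hu
  ext c
  rw [H.mem_iff ht, H.mem_iff hu2]
  exact ⟨fun hc => ⟨hc.1, H.comm u t c hu2 (H.base.mul_self_of_two ht) hc.1 htu.symm hc.2⟩,
    fun hc => ⟨hc.1, H.comm t u c ht huu hc.1 htu hc.2⟩⟩

theorem conj_mem {t : G} (ht : orderOf t = 2) (g : G) {c : G} (hc : c ∈ invCent t) :
    g * c * g⁻¹ ∈ invCent (g * t * g⁻¹) := by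
  obtain ⟨h1, h2⟩ := (H.mem_iff ht).1 hc
  refine subset_closure ⟨?_, h2.map (MulAut.conj g)⟩
  rw [← pow_two, conj_pow, pow_two, h1, mul_one, mul_inv_cancel]

theorem orderOf_conj {t : G} (ht : orderOf t = 2) (g : G) : orderOf (g * t * g⁻¹) = 2 :=
  ((MulAut.conj g).orderOf_eq t).trans ht

variable [Finite G]

theorem mem_normalizer_of_conj {t : G} (ht : orderOf t = 2) {g : G}
    (hg : g * t * g⁻¹ ∈ invCent t) : g ∈ normalizer (invCent t : Set G) := by
  haveI := Fintype.ofFinite (invCent t)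
  refine Subgroup.mem_normalizer_fintype fun c hc => ?_
  have := H.conj_mem ht g hc
  rwa [H.invCent_eq ht hg (H.orderOf_conj ht g)] at this

theorem mem_normalizer_of_commute {t : G} (ht : orderOf t = 2) {g : G} (hg : Commute t g) :
    g ∈ normalizer (invCent t : Set G) := by
  refine H.mem_normalizer_of_conj ht ?_
  rw [show g * t = t * g from hg.eq.symm, mul_inv_cancel_right]
  exact H.self_mem ht

theorem conj_mem_self {t : G} {g c : G} (hg : g ∈ normalizer (invCent t : Set G))
    (hc : c ∈ invCent t) : g * c * g⁻¹ ∈ invCent t := (mem_normalizer_iff.1 hg c).1 hc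

theorem two_dvd_card {t : G} (ht : orderOf t = 2) : 2 ∣ Nat.card (invCent t) :=
  ht ▸ (Subgroup.orderOf_mk t (H.self_mem ht)) ▸ orderOf_dvd_natCard _

/-- The only involutions normalising `invCent t` are its elements. -/
theorem invol_mem {t s : G} (ht : orderOf t = 2) (hs : s * s = 1)
    (hN : s ∈ normalizer (invCent t : Set G)) : s ∈ invCent t := by
  obtain ⟨u, hu, hu2, hsu⟩ := H.base.exists_invol_fixed hs hN (H.two_dvd_card ht)
  rw [← H.invCent_eq ht hu hu2]
  exact (H.mem_iff hu2).2 ⟨hs, hsu.symm⟩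

/-- No element of order `p` is inverted by an involution. -/
theorem no_inverted {s z : G} (hs : orderOf s = 2) (hz : orderOf z = p) (hsz : s * z * s⁻¹ = z⁻¹) :
    False := by
  have hss := H.base.mul_self_of_two hs
  obtain ⟨u₀, hu₀, hu₀z⟩ := H.base.exists_invol_commute hz
  have hN : s ∈ normalizer (centralizer ({z} : Set G) : Set G) := by
    haveI := Fintype.ofFinite (centralizer ({z} : Set G))
    refine Subgroup.mem_normalizer_fintype fun c hc => mem_centralizer_singleton_iff.2 ?_
    have hc' : Commute c z := mem_centralizer_singleton_iff.1 hc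
    have h1 : Commute (s * c * s⁻¹) (s * z * s⁻¹) := hc'.map (MulAut.conj s)
    rw [hsz] at h1
    simpa using h1.inv_right.eq
  have hev : 2 ∣ Nat.card (centralizer ({z} : Set G)) :=
    hu₀ ▸ (Subgroup.orderOf_mk u₀ (mem_centralizer_singleton_iff.2 hu₀z.eq)) ▸ orderOf_dvd_natCard _
  obtain ⟨u, huC, hu, hsu⟩ := H.base.exists_invol_fixed hss hN hev
  have hzu : Commute u z := mem_centralizer_singleton_iff.1 huC
  have hsT : s ∈ invCent u := (H.mem_iff hu).2 ⟨hss, hsu.symm⟩
  have hzs := H.commute_mem hu (H.conj_mem_self (H.mem_normalizer_of_commute hu hzu) hsT) hsT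
  have hsinv : s⁻¹ = s := inv_eq_of_mul_eq_one_left hss
  have e1 : s * z⁻¹ = z * s := by
    have h1 := congrArg (·⁻¹) hsz
    simp only [mul_inv_rev, inv_inv, ← mul_assoc] at h1
    calc s * z⁻¹ = (s * z⁻¹ * s⁻¹) * s := by group
      _ = z * s := by rw [h1]
  have e2 : z * s * z⁻¹ = z * z * s := by
    rw [mul_assoc z s, e1, mul_assoc]
  rw [e2] at hzs
  have e3 : z * z = z⁻¹ * z⁻¹ := by
    calc z * z = (z * z * s) * s := by rw [mul_assoc _ s s, hss, mul_one]
      _ = s * (z * z * s) := hzs.eq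
      _ = (s * z * s⁻¹) * (s * z * s⁻¹) := by
          rw [hsinv]; simp only [mul_assoc, ← mul_assoc s s, hss, one_mul]
      _ = z⁻¹ * z⁻¹ := by rw [hsz]
  have h4 : z ^ 4 = 1 := by
    calc z ^ 4 = (z * z) * (z * z) := by simp [pow_succ, mul_assoc]
      _ = (z * z) * (z⁻¹ * z⁻¹) := by rw [← e3]
      _ = 1 := by group
  have h5 := hz ▸ orderOf_dvd_of_pow_eq_one h4
  have := (Nat.prime_dvd_prime_iff_eq H.base.pp Nat.prime_two).1
    (H.base.pp.dvd_of_dvd_pow (show p ∣ 2 ^ 2 from h5))
  exact H.base.p2 this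

theorem comm_invols_p {z u v : G} (hz : orderOf z = p) (hu : orderOf u = 2) (hv : v * v = 1)
    (huz : Commute u z) (hvz : Commute v z) : Commute u v := by
  have hz1 : z ≠ 1 := fun e => H.base.pp.ne_one (by rw [← hz, e, orderOf_one])
  have huu := H.base.mul_self_of_two hu
  have hc := H.base.pow_two_p_of_commute (Or.inr (hz ▸ pow_orderOf_eq_one z)) hz1
    (huz.mul_left hvz).symm
  obtain ⟨hj1, hj2, hj⟩ := H.base.split hc
  have hinv : u * (u * v) * u⁻¹ = (u * v)⁻¹ := conj_invol_mul huu hv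
  have hx : (u * v) ^ (p + 1) = 1 := by
    by_contra h1
    refine H.no_inverted hu (H.base.orderOf_eq_p hj2 h1) ?_
    rw [← conj_pow, hinv, inv_pow]
  have hjj : (u * v) * (u * v) = 1 := by
    rw [hx, mul_one] at hj
    rw [hj]; exact hj1
  show u * v = v * u
  calc u * v = (u * v)⁻¹ := (inv_eq_of_mul_eq_one_right hjj).symm
    _ = v * u := by
      rw [mul_inv_rev, inv_eq_of_mul_eq_one_left huu, inv_eq_of_mul_eq_one_left hv]

/-- Elements commuting with an element of order `p` normalise the involutions commuting with it. -/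
theorem mem_normalizer_of_commute_p {z u c : G} (hz : orderOf z = p) (hu : orderOf u = 2)
    (huz : Commute u z) (hc : Commute z c) : c ∈ normalizer (invCent u : Set G) := by
  refine H.mem_normalizer_of_conj hu ((H.mem_iff hu).2 ?_)
  have h1 : (c * u * c⁻¹) * (c * u * c⁻¹) = 1 := by
    rw [← pow_two, ← H.orderOf_conj hu c, pow_orderOf_eq_one]
  refine ⟨h1, H.comm_invols_p hz hu h1 huz ?_⟩
  have h2 : Commute (c * u * c⁻¹) (c * z * c⁻¹) := huz.map (MulAut.conj c)
  rwa [show c * z = z * c from hc.eq.symm, mul_inv_cancel_right] at h2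

variable [IsSimpleGroup G]

theorem not_cyclic (hG : ¬ IsMulCommutative G) : ¬ IsCyclic G := fun _ =>
  hG ⟨⟨fun a b => IsCyclic.commGroup.mul_comm a b⟩⟩

theorem four_le_card (hG : ¬ IsMulCommutative G) {t : G} (ht : orderOf t = 2) :
    4 ≤ Nat.card (invCent t) := by
  obtain ⟨E, hE⟩ := Cfsg.Agent.S0204.result (G := G) (H.not_cyclic hG)
  have hsq : ∀ e : E, e * e = 1 := fun e => by
    have := Monoid.pow_exponent_eq_one e
    rwa [IsKleinFour.exponent_two, pow_two] at this
  haveI : Nontrivial E := Finite.one_lt_card_iff_nontrivial.1 (by rw [IsKleinFour.card_four]; norm_num)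
  obtain ⟨e₀, he₀⟩ := exists_ne (1 : E)
  have he : orderOf (e₀ : G) = 2 :=
    H.base.orderOf_eq_two (congrArg Subtype.val (hsq e₀)) (fun e => he₀ (Subtype.ext e))
  have hle : E ≤ invCent (e₀ : G) := fun c hc => (H.mem_iff he).2 ⟨congrArg Subtype.val (hsq ⟨c, hc⟩),
    congrArg Subtype.val (mul_comm_of_exponent_two IsKleinFour.exponent_two e₀ ⟨c, hc⟩)⟩
  obtain ⟨a, rfl⟩ := H.base.conj _ _ (he.trans ht.symm)
  have hmap : (invCent (e₀ : G)).map a.toMonoidHom ≤ invCent (a (e₀ : G)) := by
    rintro _ ⟨c, hc, rfl⟩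
    obtain ⟨h1, h2⟩ := (H.mem_iff he).1 hc
    exact subset_closure ⟨by rw [← map_mul, h1, map_one], h2.map a⟩
  have h1 := Subgroup.card_le_of_le (hle : E ≤ _)
  have h2 := Subgroup.card_le_of_le hmap
  rw [card_map_of_injective a.injective] at h2
  rw [IsKleinFour.card_four] at h1
  omega

theorem normalizer_ne_top (hG : ¬ IsMulCommutative G) {t : G} (ht : orderOf t = 2) :
    normalizer (invCent t : Set G) ≠ ⊤ := fun e => by
  haveI : (invCent t).Normal := normalizer_eq_top_iff.1 e
  rcases Subgroup.Normal.eq_bot_or_eq_top ‹(invCent t).Normal› with e' | e'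
  · exact H.base.ne_one_of_two ht (mem_bot.1 (e' ▸ H.self_mem ht))
  · exact hG ⟨⟨fun a b => H.commute_mem ht (e' ▸ mem_top a) (e' ▸ mem_top b)⟩⟩

/-- Some element of order `q` normalises `invCent t`. -/
theorem exists_q (hG : ¬ IsMulCommutative G) {t : G} (ht : orderOf t = 2) :
    ∃ y ∈ normalizer (invCent t : Set G), orderOf y = q := by
  classical
  haveI := Fintype.ofFinite G
  set M := normalizer (invCent t : Set G) with hM
  haveI := Fintype.ofFinite (G ⧸ M)
  set Tn : Finset G := Finset.univ.filter fun u => u ∈ invCent t ∧ u ≠ 1 with hTn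
  set C : Finset (G ⧸ M) := Finset.univ.erase (QuotientGroup.mk (1 : G)) with hC
  have hTcard : 2 ≤ Tn.card := by
    have h4 := H.four_le_card hG ht
    have h1 : Tn = ((invCent t : Set G).toFinset).erase 1 := by
      ext u; simp [hTn, and_comm]
    rw [h1, Finset.card_erase_of_mem (by simp [one_mem]), Set.toFinset_card, ← Nat.card_eq_fintype_card]
    change 2 ≤ Nat.card (invCent t) - 1
    omega
  have hCpos : 0 < C.card := by
    rw [Finset.card_pos]
    obtain ⟨g, hg⟩ : ∃ g : G, g ∉ M := by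
      by_contra hall
      push Not at hall
      exact H.normalizer_ne_top hG ht (eq_top_iff.2 fun g _ => hall g)
    refine ⟨QuotientGroup.mk g, Finset.mem_erase.2 ⟨fun e => hg ?_, Finset.mem_univ _⟩⟩
    simpa using QuotientGroup.eq.1 e.symm
  have hmapsto : Set.MapsTo (fun yu : (G ⧸ M) × G => (QuotientGroup.mk (yu.1.out * yu.2 * yu.1.out⁻¹) : G ⧸ M))
      (C ×ˢ Tn : Finset ((G ⧸ M) × G)) C := by
    intro ⟨y, u⟩ hyu
    simp only [Finset.coe_product, Set.mem_prod, Finset.mem_coe, hC, hTn, Finset.mem_erase,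
      Finset.mem_filter, Finset.mem_univ, true_and, and_true] at hyu ⊢
    intro e
    obtain ⟨hy, hu, hu1⟩ := hyu
    refine hy ?_
    have hmem : y.out * u * y.out⁻¹ ∈ M := by simpa using QuotientGroup.eq.1 e.symm
    have hu2 := H.base.orderOf_eq_two ((H.mem_iff ht).1 hu).1 hu1
    have hT := H.invol_mem ht (by rw [← pow_two, ← H.orderOf_conj hu2 y.out, pow_orderOf_eq_one]) hmem
    have hN : y.out ∈ normalizer (invCent u : Set G) :=
      H.mem_normalizer_of_conj hu2 (by rw [H.invCent_eq ht hu hu2]; exact hT)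
    rw [H.invCent_eq ht hu hu2] at hN
    rw [← y.out_eq']
    exact QuotientGroup.eq.2 (by simpa using hN)
  obtain ⟨a, ha, b, hb, hab, hf⟩ := Finset.exists_ne_map_eq_of_card_lt_of_maps_to
    (by rw [Finset.card_product]; nlinarith : C.card < (C ×ˢ Tn).card) hmapsto
  simp only [Finset.mem_product, hC, hTn, Finset.mem_erase, Finset.mem_filter, Finset.mem_univ,
    true_and, and_true] at ha hb
  set s := a.1.out * a.2 * a.1.out⁻¹ with hs
  set s' := b.1.out * b.2 * b.1.out⁻¹ with hs'
  have hs2 : orderOf s = 2 :=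
    H.orderOf_conj (H.base.orderOf_eq_two ((H.mem_iff ht).1 ha.2.1).1 ha.2.2) _
  have hs2' : orderOf s' = 2 :=
    H.orderOf_conj (H.base.orderOf_eq_two ((H.mem_iff ht).1 hb.2.1).1 hb.2.2) _
  have hsM : s ∉ M := fun e => by
    have := hmapsto (show a ∈ ((C ×ˢ Tn : Finset _) : Set _) by simp [hC, hTn, ha])
    simp only [hC, Finset.coe_erase, Set.mem_sdiff, Set.mem_singleton_iff] at this
    exact this.2 (QuotientGroup.eq.2 (by simpa using e)).symm
  have hss := H.base.mul_self_of_two hs2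
  have hss' := H.base.mul_self_of_two hs2'
  have hj : s * s' ∈ M := by
    have := QuotientGroup.eq.1 hf
    rwa [inv_eq_of_mul_eq_one_left hss] at this
  -- distinct
  have hne : s ≠ s' := fun e => by
    refine hab ?_
    have hua := H.base.orderOf_eq_two ((H.mem_iff ht).1 ha.2.1).1 ha.2.2
    have hN : b.1.out⁻¹ * a.1.out ∈ normalizer (invCent a.2 : Set G) := by
      refine H.mem_normalizer_of_conj hua ?_
      rw [show b.1.out⁻¹ * a.1.out * a.2 * (b.1.out⁻¹ * a.1.out)⁻¹ = b.1.out⁻¹ * s * b.1.out by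
        rw [hs]; group, e, hs', show b.1.out⁻¹ * (b.1.out * b.2 * b.1.out⁻¹) * b.1.out = b.2 by group,
        H.invCent_eq ht ha.2.1 hua]
      exact hb.2.1
    rw [H.invCent_eq ht ha.2.1 hua] at hN
    have h1 : a.1 = b.1 := by
      rw [← a.1.out_eq', ← b.1.out_eq']
      exact (QuotientGroup.eq.2 hN).symm
    refine Prod.ext h1 ?_
    have e' := e
    rw [hs, hs', h1] at e'
    simpa using e'
  have hinv : s * (s * s') * s⁻¹ = (s * s')⁻¹ := conj_invol_mul hss hss'
  -- an involution of `M` does not commute with `s`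
  have hno : ∀ j : G, j ∈ M → orderOf j = 2 → ¬ Commute j s := fun j hjM hj2 hc => by
    have hjT := H.invol_mem ht (H.base.mul_self_of_two hj2) hjM
    have h1 : s ∈ invCent j := (H.mem_iff hj2).2 ⟨hss, hc⟩
    rw [H.invCent_eq ht hjT hj2] at h1
    exact hsM (le_normalizer h1)
  refine ⟨s * s', hj, ?_⟩
  rcases H.base.ord (s * s') with e | e | e | e | e
  · refine absurd ?_ hne
    rw [orderOf_eq_one_iff] at e
    rw [eq_inv_of_mul_eq_one_left e, inv_eq_of_mul_eq_one_left hss']
  · refine absurd ?_ (hno _ hj e)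
    rw [inv_eq_of_mul_eq_one_left (H.base.mul_self_of_two e)] at hinv
    exact (mul_inv_eq_iff_eq_mul.1 hinv).symm
  · exact (H.no_inverted hs2 e hinv).elim
  · exact e
  · have e2 : orderOf ((s * s') ^ p) = 2 := by
      rw [orderOf_pow_of_dvd H.base.pp.ne_zero (e ▸ dvd_mul_left _ _), e,
        Nat.mul_div_cancel _ H.base.pp.pos]
    refine absurd ?_ (hno _ (pow_mem hj p) e2)
    have h1 : s * (s * s') ^ p * s⁻¹ = (s * s') ^ p := by
      rw [← conj_pow, hinv, inv_pow, inv_eq_of_mul_eq_one_left (H.base.mul_self_of_two e2)]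
    exact (mul_inv_eq_iff_eq_mul.1 h1).symm

theorem pow_pq_mem {t : G} (ht : orderOf t = 2) {g : G}
    (hg : g ∈ normalizer (invCent t : Set G)) :
    g ^ (p * q) ∈ centralizer (invCent t : Set G) := by
  have h1 : g ^ (p * q) ∈ invCent t := H.invol_mem ht
    (by rw [← pow_add, ← two_mul]; exact H.base.pow_all g) (pow_mem hg _)
  exact mem_centralizer_iff.2 fun c hc => H.commute_mem ht hc h1

/-- An element of order `q` normalising `invCent t` fixes none of its involutions. -/
theorem q_fix {t : G} (ht : orderOf t = 2) {y b : G} (hy : orderOf y = q) (hb : b ∈ invCent t)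
    (hc : Commute y b) : b = 1 :=
  H.base.eq_one_of_commute_q hy hc.symm (Or.inl ((H.mem_iff ht).1 hb).1)

theorem coprime_card {t : G} (ht : orderOf t = 2) {Y : Subgroup G} {r : ℕ} (hr : r.Prime) (hr2 : r ≠ 2)
    (hY : IsPGroup r Y) : (Nat.card Y).Coprime (Nat.card (invCent t)) := by
  haveI := Fact.mk hr
  haveI : Fact (Nat.Prime 2) := ⟨Nat.prime_two⟩
  have hT : IsPGroup 2 (invCent t) := fun c => ⟨1, Subtype.ext (by
    rw [pow_one, pow_two]; exact ((H.mem_iff ht).1 c.2).1)⟩
  obtain ⟨a, ha⟩ := IsPGroup.iff_card.1 hY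
  obtain ⟨b, hb⟩ := IsPGroup.iff_card.1 hT
  rw [ha, hb]
  exact ((Nat.coprime_primes hr Nat.prime_two).2 hr2).pow a b

/-- There is a normal `q`-layer above the centraliser. -/
theorem exists_qlayer (hG : ¬ IsMulCommutative G) {t : G} (ht : orderOf t = 2) :
    ∃ N : Subgroup G, centralizer (invCent t : Set G) ≤ N ∧ N ≤ normalizer (invCent t : Set G) ∧
      normalizer (invCent t : Set G) ≤ normalizer (N : Set G) ∧
      (∀ g ∈ N, g ^ q ∈ centralizer (invCent t : Set G)) ∧ ∃ y ∈ N, orderOf y = q := by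
  haveI := H.base.pp.ne_zero
  set M := normalizer (invCent t : Set G) with hM
  set L := centralizer (invCent t : Set G) with hL
  have hLM : L ≤ M := fun g hg => H.mem_normalizer_of_commute ht
    (mem_centralizer_iff.1 hg t (H.self_mem ht))
  have hnorm : M ≤ normalizer (L : Set G) := fun g hg => by
    haveI := Fintype.ofFinite L
    refine Subgroup.mem_normalizer_fintype fun c hc => mem_centralizer_iff.2 fun b hb => ?_
    have hb' : g⁻¹ * b * g ∈ invCent t := by
      simpa using H.conj_mem_self (inv_mem hg) hb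
    have := mem_centralizer_iff.1 hc _ hb'
    calc b * (g * c * g⁻¹) = g * ((g⁻¹ * b * g) * c) * g⁻¹ := by group
      _ = g * (c * (g⁻¹ * b * g)) * g⁻¹ := by rw [this]
      _ = g * c * g⁻¹ * b := by group
  obtain ⟨y, hyM, hy⟩ := H.exists_q hG ht
  have hyL : y ∉ L := fun e => H.base.ne_one_of_two ht (H.q_fix ht hy (H.self_mem ht)
    (mem_centralizer_iff.1 e t (H.self_mem ht)).symm)
  obtain ⟨r, N, hr, hLN, hNM, hMN, hNr, g, hgN, hgL⟩ :=
    H.base.exists_layer hLM hnorm hyM hyL fun g hg => H.pow_pq_mem ht hg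
  have hrp : r.Prime := by rcases hr with rfl | rfl; exacts [H.base.pp, H.base.qq]
  have hcop : ∀ n : ℕ, n.Coprime r → g ^ n = 1 → False := fun n hn hgn => by
    obtain ⟨j, -, hj⟩ := Nat.exists_mul_mod_eq_one_of_coprime hn.symm (by
      rcases Nat.lt_or_ge 1 n with h1 | h1
      · exact h1
      · interval_cases n
        · exact absurd hn.symm (by simp [hrp.ne_one])
        · exact absurd (pow_one g ▸ hgn : g = 1) fun e => hgL (e ▸ L.one_mem))
    refine hgL ?_
    have h2 := pow_mem (hNr g hgN) j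
    rwa [← pow_mul, pow_eq_pow_mod _ hgn, hj, pow_one] at h2
  rcases hr with hre | hre <;> rw [hre] at hNr hcop
  swap
  · -- a `q`-layer
    refine ⟨N, hLN, hNM, hMN, hNr, g, hgN, ?_⟩
    have hc2 : Nat.Coprime 2 q := (Nat.coprime_primes Nat.prime_two H.base.qq).2 H.base.q2.symm
    have hcp : Nat.Coprime p q := (Nat.coprime_primes H.base.pp H.base.qq).2 H.base.pq
    rcases H.base.ord g with e | e | e | e | e
    · exact absurd (orderOf_eq_one_iff.1 e) fun e' => hgL (e' ▸ L.one_mem)
    · exact (hcop 2 hc2 (e ▸ pow_orderOf_eq_one g)).elim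
    · exact (hcop p hcp (e ▸ pow_orderOf_eq_one g)).elim
    · exact e
    · exact (hcop (2 * p) (hc2.mul_left hcp) (e ▸ pow_orderOf_eq_one g)).elim
  -- a `p`-layer is centralised
  exfalso
  haveI := Fact.mk H.base.pp
  obtain ⟨Y⟩ := (inferInstance : Nonempty (Sylow p N))
  have hyN : y ∉ N := fun e => by
    obtain ⟨j, -, hj⟩ := Nat.exists_mul_mod_eq_one_of_coprime
      ((Nat.coprime_primes H.base.pp H.base.qq).2 H.base.pq) H.base.qq.one_lt
    refine hyL ?_
    have h2 := pow_mem (hNr y e) j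
    rwa [← pow_mul, pow_eq_pow_mod _ (hy ▸ pow_orderOf_eq_one y : y ^ q = 1), hj, pow_one] at h2
  obtain ⟨m, hmM, hmN, hm, hmY⟩ := H.base.exists_in_normalizer hNM hMN Y (Or.inr rfl) hyM hyN
    (hy ▸ pow_orderOf_eq_one y)
  set YG := (Y : Subgroup N).map N.subtype with hYG
  have hYM : YG ≤ M := (map_subtype_le _).trans hNM
  haveI : IsMulCommutative (invCent t) := ⟨⟨fun a b => Subtype.ext (H.commute_mem ht a.2 b.2)⟩⟩
  have hY := centralizes (A := invCent t) hYM H.base.qq (x := m) hmM hmY (hm ▸ pow_orderOf_eq_one m)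
    (fun b hb hc => H.base.eq_one_of_commute_q hm hc.symm (Or.inr (by
      obtain ⟨k, hk⟩ := (Y.2.map N.subtype) ⟨b, hb⟩
      exact H.base.pow_prime_eq_one (k := k) (Or.inl rfl) (congrArg Subtype.val hk))))
    (H.coprime_card ht H.base.pp H.base.p2 (Y.2.map _))
    (fun b hb a ha => mul_pow_eq_one (mul_mem (mul_mem (hYM hb) hmM) (inv_mem (hYM hb))) ha
      (by rw [conj_pow, ← hm, pow_orderOf_eq_one, mul_one, mul_inv_cancel])
      (fun c hc hcc => H.q_fix ht (((MulAut.conj b).orderOf_eq m).trans hm) hc hcc))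
  have hYL : YG ≤ L := fun b hb => mem_centralizer_iff.2 fun a ha => (hY b hb a ha).symm.eq
  -- the `p`-part of `g` is outside `L`, and conjugate into `Y`
  have hgp : g ^ (q * 2) ∉ L := fun e => by
    have h2q : (q * 2).Coprime p := ((Nat.coprime_primes H.base.qq H.base.pp).2 H.base.pq.symm).mul_left
      ((Nat.coprime_primes Nat.prime_two H.base.pp).2 H.base.p2.symm)
    obtain ⟨u, v, huv⟩ : ∃ u v : ℤ, ((q * 2 : ℕ) : ℤ) * u + (p : ℤ) * v = 1 :=
      ⟨_, _, (Nat.gcd_eq_gcd_ab (q * 2) p).symm.trans (by rw [h2q.gcd_eq_one]; rfl)⟩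
    refine hgL ?_
    rw [← zpow_one g, ← huv, zpow_add, zpow_mul, zpow_mul, zpow_natCast, zpow_natCast]
    exact mul_mem (zpow_mem e u) (zpow_mem (hNr g hgN) v)
  have hpg : IsPGroup p (zpowers (⟨g ^ (q * 2), pow_mem hgN _⟩ : N)) := IsPGroup.of_card (n := 1) (by
    rw [Nat.card_zpowers, pow_one, Subgroup.orderOf_mk]
    refine H.base.orderOf_eq_p ?_ fun e => hgp (e ▸ L.one_mem)
    rw [← pow_mul, show q * 2 * p = 2 * (p * q) by ring, H.base.pow_all])
  obtain ⟨P, hP⟩ := hpg.exists_le_sylow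
  obtain ⟨n, rfl⟩ := MulAction.exists_smul_eq N Y P
  have h1 := hP (mem_zpowers _)
  rw [Sylow.coe_subgroup_smul, Subgroup.mem_pointwise_smul_iff_inv_smul_mem, MulAut.smul_def,
    MulAut.conj_inv_apply] at h1
  have h2 : (n : G)⁻¹ * g ^ (q * 2) * (n : G) ∈ L := hYL ⟨_, h1, by simp⟩
  exact hgp (by simpa [mul_assoc] using (mem_normalizer_iff.1 (hnorm (hNM n.2)) _).1 h2)

/-- Some involution is centralised by a `p`-element not centralising all of `invCent t`, or none. -/
theorem no_Ia (hG : ¬ IsMulCommutative G)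
    (hIa : ∀ t u x : G, orderOf t = 2 → u ∈ invCent t → x ^ p = 1 → Commute t x → Commute u x)
    (hR : ∀ t x y : G, orderOf t = 2 → x ^ p = 1 → y ^ p = 1 → Commute t x → Commute t y → Commute x y) :
    False := by
  -- the `p`-elements of a normaliser centralise
  have hpM : ∀ t x : G, orderOf t = 2 → x ∈ normalizer (invCent t : Set G) → x ^ p = 1 →
      Commute t x := by
    intro t x ht hxM hx
    by_contra hxt
    have hxL : x ∉ centralizer (invCent t : Set G) := fun e =>
      hxt (mem_centralizer_iff.1 e t (H.self_mem ht))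
    obtain ⟨N, hLN, hNM, hMN, hNq, y, hyN, hy⟩ := H.exists_qlayer hG ht
    have hxN : x ∉ N := fun e => by
      obtain ⟨j, -, hj⟩ := Nat.exists_mul_mod_eq_one_of_coprime
        ((Nat.coprime_primes H.base.qq H.base.pp).2 H.base.pq.symm) H.base.pp.one_lt
      refine hxL ?_
      have h2 := pow_mem (hNq x e) j
      rwa [← pow_mul, pow_eq_pow_mod _ hx, hj, pow_one] at h2
    haveI := Fact.mk H.base.qq
    obtain ⟨Y⟩ := (inferInstance : Nonempty (Sylow q N))
    obtain ⟨m, hmM, hmN, hm, hmY⟩ := H.base.exists_in_normalizer hNM hMN Y (Or.inl rfl) hxM hxN hx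
    haveI : IsMulCommutative (invCent t) := ⟨⟨fun a b => Subtype.ext (H.commute_mem ht a.2 b.2)⟩⟩
    set YG := (Y : Subgroup N).map N.subtype with hYG
    have hYM : YG ≤ normalizer (invCent t : Set G) := (map_subtype_le _).trans hNM
    have hYq : ∀ b ∈ YG, b ≠ 1 → orderOf b = q := fun b hb hb1 => by
      obtain ⟨k, hk⟩ := (Y.2.map N.subtype) ⟨b, hb⟩
      exact orderOf_eq_prime (H.base.pow_prime_eq_one (k := k) (Or.inr rfl) (congrArg Subtype.val hk)) hb1
    have hY := centralizes (A := invCent t) hYM H.base.pp (x := m) hmM hmY (hm ▸ pow_orderOf_eq_one m)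
      (fun b hb hc => by
        by_contra hb1
        have e := H.base.eq_one_of_commute_q (hYq b hb hb1) hc (Or.inr (hm ▸ pow_orderOf_eq_one m))
        exact hmN (e ▸ N.one_mem))
      (H.coprime_card ht H.base.qq H.base.q2 (Y.2.map _))
      (fun b hb a ha => mul_pow_eq_one (mul_mem (mul_mem (hYM hb) hmM) (inv_mem (hYM hb))) ha
        (by rw [conj_pow, ← hm, pow_orderOf_eq_one, mul_one, mul_inv_cancel])
        (fun c hc hcc => by
          by_contra hc1
          have hc2 := H.base.orderOf_eq_two ((H.mem_iff ht).1 hc).1 hc1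
          refine hmN ?_
          have hbN : b ∈ N := map_subtype_le _ hb
          have hm' : b * m * b⁻¹ ∈ N := hLN (mem_centralizer_iff.2 fun a' ha' =>
            (hIa c a' _ hc2 ((H.invCent_eq ht hc hc2).symm ▸ ha')
              (by rw [conj_pow, ← hm, pow_orderOf_eq_one, mul_one, mul_inv_cancel]) hcc.symm).eq)
          simpa [mul_assoc] using mul_mem (mul_mem (inv_mem hbN) hm') hbN))
    have hqN : q ∣ Nat.card N := hy ▸ (Subgroup.orderOf_mk y hyN) ▸ orderOf_dvd_natCard _
    obtain ⟨b, hb⟩ := exists_prime_orderOf_dvd_card' q (Y.dvd_card_of_dvd_card hqN)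
    have hbG : ((b : N) : G) ∈ YG := ⟨(b : N), b.2, rfl⟩
    have hbq : orderOf ((b : N) : G) = q := by rw [Subgroup.orderOf_coe, Subgroup.orderOf_coe, hb]
    exact H.base.ne_one_of_two ht (H.q_fix ht hbq (H.self_mem ht) (hY _ hbG t (H.self_mem ht)))
  -- centralisers are commutative
  have hcomm : ∀ t c d : G, orderOf t = 2 → Commute t (c ^ (p + 1)) → Commute t (d ^ (p + 1)) →
      Commute t (c ^ p) → Commute t (d ^ p) → c ^ (2 * p) = 1 → d ^ (2 * p) = 1 → Commute c d := by
    intro t c d ht hc2 hd2 hc1 hd1 hc hd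
    obtain ⟨c11, c22, ce⟩ := H.base.split hc
    obtain ⟨d11, d22, de⟩ := H.base.split hd
    have hc1' : c ^ p ∈ invCent t := (H.mem_iff ht).2 ⟨c11, hc1⟩
    have hd1' : d ^ p ∈ invCent t := (H.mem_iff ht).2 ⟨d11, hd1⟩
    rw [ce, de]
    exact ((H.commute_mem ht hc1' hd1').mul_right (hIa t _ _ ht hc1' d22 hd2)).mul_left
      ((hIa t _ _ ht hd1' c22 hc2).symm.mul_right (hR t _ _ ht c22 d22 hc2 hd2))
  have hCt : ∀ t : G, orderOf t = 2 → IsMulCommutative (centralizer ({t} : Set G)) := fun t ht =>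
    ⟨⟨fun c d => by
      have hc : Commute t (c : G) := (mem_centralizer_singleton_iff.1 c.2).symm
      have hd : Commute t (d : G) := (mem_centralizer_singleton_iff.1 d.2).symm
      exact Subtype.ext (hcomm t c d ht (hc.pow_right _) (hd.pow_right _) (hc.pow_right _)
        (hd.pow_right _) (H.base.pow_two_p_of_commute_two ht hc) (H.base.pow_two_p_of_commute_two ht hd))⟩⟩
  have hCz : ∀ z : G, orderOf z = p → IsMulCommutative (centralizer ({z} : Set G)) := fun z hz => by
    obtain ⟨u, hu, huz⟩ := H.base.exists_invol_commute hz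
    have key : ∀ c : G, Commute z c → Commute u c ∧ c ^ (2 * p) = 1 := fun c hc => by
      have hc2 := H.base.pow_two_p_of_commute (Or.inr (hz ▸ pow_orderOf_eq_one z))
        (fun e => H.base.pp.ne_one (by rw [← hz, e, orderOf_one])) hc
      obtain ⟨h1, h2, he⟩ := H.base.split hc2
      refine ⟨?_, hc2⟩
      rw [he]
      exact (H.comm_invols_p hz hu h1 huz (hc.pow_right p).symm).mul_right
        (hpM u _ hu (pow_mem (H.mem_normalizer_of_commute_p hz hu huz hc) _) h2)
    exact ⟨⟨fun c d => by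
      obtain ⟨hc, hc2⟩ := key c (mem_centralizer_singleton_iff.1 c.2).symm
      obtain ⟨hd, hd2⟩ := key d (mem_centralizer_singleton_iff.1 d.2).symm
      exact Subtype.ext (hcomm u c d hu (hc.pow_right _) (hd.pow_right _) (hc.pow_right _)
        (hd.pow_right _) hc2 hd2)⟩⟩
  have hns : ¬ Group.IsSolvable G := fun hs => hG ⟨⟨fun a b =>
    (IsSimpleGroup.comm_iff_isSolvable.2 hs) a b⟩⟩
  have hCN : Cfsg.IsCNGroup G := fun g hg => by
    have hsub : ∀ k : ℕ, IsMulCommutative (centralizer ({g ^ k} : Set G)) →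
        Group.IsNilpotent (centralizer ({g} : Set G)) := fun k hk => by
      letI : CommGroup (centralizer ({g} : Set G)) :=
        { mul_comm := fun a b => Subtype.ext (congrArg
            (fun z : centralizer ({g ^ k} : Set G) => (z : G)) (mul_comm'
            (⟨(a : G), mem_centralizer_singleton_iff.2
              ((show Commute (a : G) g from mem_centralizer_singleton_iff.1 a.2).pow_right k).eq⟩ :
              centralizer ({g ^ k} : Set G))
            ⟨(b : G), mem_centralizer_singleton_iff.2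
              ((show Commute (b : G) g from mem_centralizer_singleton_iff.1 b.2).pow_right k).eq⟩)) }
      infer_instance
    rcases H.base.ord g with e | e | e | e | e
    · exact absurd (orderOf_eq_one_iff.1 e) hg
    · exact hsub 1 (by rw [pow_one]; exact hCt g e)
    · exact hsub 1 (by rw [pow_one]; exact hCz g e)
    · haveI := Fact.mk H.base.qq
      exact IsPGroup.isNilpotent (p := q) fun c => ⟨1, Subtype.ext (by
        rw [pow_one]; exact H.base.pow_q_of_commute e (mem_centralizer_singleton_iff.1 c.2))⟩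
    · refine hsub p (hCt _ ?_)
      rw [orderOf_pow_of_dvd H.base.pp.ne_zero (e ▸ dvd_mul_left _ _), e,
        Nat.mul_div_cancel _ H.base.pp.pos]
  have hCIT := CfsgLib.CIT.isCIT_of_simple_cn hns hCN
  obtain ⟨t, x, ht, hx, hc⟩ := H.base.exists_pair
  obtain ⟨k, hk⟩ := hCIT t ht ⟨x, mem_centralizer_singleton_iff.2 hc.eq.symm⟩
  have hd := orderOf_dvd_of_pow_eq_one (congrArg Subtype.val hk)
  change orderOf x ∣ 2 ^ k at hd
  exact H.base.p2 ((Nat.prime_dvd_prime_iff_eq H.base.pp Nat.prime_two).1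
    (H.base.pp.dvd_of_dvd_pow (hx ▸ hd)))

/-- The case of self-centralising `invCent t`. -/
theorem no_II (hG : ¬ IsMulCommutative G)
    (hII : ∀ t x : G, orderOf t = 2 → x ^ p = 1 → (∀ u ∈ invCent t, Commute u x) → x = 1) :
    False := by
  obtain ⟨-, x, -, hx, -⟩ := H.base.exists_pair
  have hxp : x ^ p = 1 := hx ▸ pow_orderOf_eq_one x
  have hx1 : x ≠ 1 := fun e => H.base.pp.ne_one (by rw [← hx, e, orderOf_one])
  obtain ⟨u, hu, hux⟩ := H.base.exists_invol_commute hx
  obtain ⟨N, hLN, hNM, hMN, hNq, -, -⟩ := H.exists_qlayer hG hu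
  obtain ⟨N', hLN', hNM', hMN', hNq', y, hyN, hy⟩ := H.exists_qlayer hG hu
  clear hLN hNM hMN hNq N
  set M := normalizer (invCent u : Set G) with hM
  have hTN : invCent u ≤ N' := fun c hc => hLN' (mem_centralizer_iff.2 fun b hb => H.commute_mem hu hb hc)
  have hCT : ∀ c ∈ centralizer (invCent u : Set G), c ∈ invCent u := fun c hc => by
    have hcu : Commute u c := mem_centralizer_iff.1 hc u (H.self_mem hu)
    obtain ⟨h1, h2, he⟩ := H.base.split (H.base.pow_two_p_of_commute_two hu hcu)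
    have h3 := hII u _ hu h2 fun b hb => by
      have hb' : Commute b c := mem_centralizer_iff.1 hc b hb
      exact hb'.pow_right _
    rw [he, h3, mul_one]
    exact (H.mem_iff hu).2 ⟨h1, hcu.pow_right _⟩
  haveI : IsMulCommutative (invCent u) := ⟨⟨fun a b => Subtype.ext (H.commute_mem hu a.2 b.2)⟩⟩
  haveI := Fact.mk H.base.qq
  haveI := Fact.mk H.base.pp
  -- a Sylow `q`-subgroup of the layer is cyclic
  obtain ⟨Y⟩ := (inferInstance : Nonempty (Sylow q N'))
  have hYq : ∀ b : (Y : Subgroup N'), b ^ q = 1 := fun b => by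
    obtain ⟨k, hk⟩ := Y.2 b
    refine Subtype.ext (Subtype.ext ?_)
    refine H.base.pow_prime_eq_one (x := ((b : N') : G)) (k := k) (Or.inr rfl) ?_
    simpa using congrArg (fun z : (Y : Subgroup N') => ((z : N') : G)) hk
  have hYq' : ∀ b : (Y : Subgroup N'), b ≠ 1 → orderOf ((b : N') : G) = q := fun b hb => by
    rw [Subgroup.orderOf_coe, Subgroup.orderOf_coe]
    exact orderOf_eq_prime (hYq b) hb
  haveI hcyc : IsCyclic (Y : Subgroup N') := by
    rcases subsingleton_or_nontrivial (Y : Subgroup N') with hs | hn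
    · exact isCyclic_of_subsingleton
    haveI := Y.2.center_nontrivial
    obtain ⟨z, hz1⟩ := exists_ne (1 : center (Y : Subgroup N'))
    refine ⟨(z : (Y : Subgroup N')), fun b => ?_⟩
    by_contra hb
    let f : (Y : Subgroup N') →* G := N'.subtype.comp (Y : Subgroup N').subtype
    have hf : Function.Injective f := N'.subtype_injective.comp (Y : Subgroup N').subtype_injective
    let A : Subgroup G := (zpowers (z : (Y : Subgroup N')) ⊔ zpowers b).map f
    have hzb : Commute (z : (Y : Subgroup N')) b := ((mem_center_iff.1 z.2) b).symm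
    haveI : IsMulCommutative A := by
      have hle : zpowers (z : (Y : Subgroup N')) ⊔ zpowers b ≤
          centralizer ((zpowers (z : (Y : Subgroup N')) ⊔ zpowers b : Subgroup _) : Set _) := by
        refine sup_le ?_ ?_ <;> rw [zpowers_le, mem_centralizer_iff] <;> intro c hc
        · exact ((mem_center_iff.1 z.2) c)
        · have hle' : zpowers (z : (Y : Subgroup N')) ⊔ zpowers b ≤ centralizer {b} :=
            sup_le (zpowers_le.2 (mem_centralizer_singleton_iff.2 hzb.eq))
              (zpowers_le.2 (mem_centralizer_singleton_iff.2 rfl))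
          exact mem_centralizer_singleton_iff.1 (hle' hc)
      refine ⟨⟨?_⟩⟩
      rintro ⟨_, c, hc, rfl⟩ ⟨_, d, hd, rfl⟩
      exact Subtype.ext (by
        show f c * f d = f d * f c
        rw [← map_mul, ← map_mul, (mem_centralizer_iff.1 (hle hd) c hc)])
    have hAq : ∀ a : A, a ^ q = 1 := by
      rintro ⟨_, c, hc, rfl⟩
      exact Subtype.ext (by show f c ^ q = 1; rw [← map_pow, hYq c, map_one])
    have hz1' : (z : (Y : Subgroup N')) ≠ 1 := fun e => hz1 (Subtype.ext e)
    have hnc : ¬ IsCyclic A := fun hA => by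
      have hzA : f (z : (Y : Subgroup N')) ∈ A := mem_map_of_mem f (mem_sup_left (mem_zpowers _))
      have hbA : f b ∈ A := mem_map_of_mem f (mem_sup_right (mem_zpowers _))
      haveI := hA
      obtain ⟨k, hk⟩ := mem_zpowers_of_cyclic (C := A) H.base.qq.pos (a := ⟨_, hzA⟩) (b := ⟨_, hbA⟩)
        (orderOf_eq_prime (hAq _) fun e => hz1' (hf (by rw [map_one]; exact congrArg Subtype.val e)))
        (hAq _)
      refine hb ⟨k, hf ?_⟩
      simp only [map_zpow]
      exact congrArg Subtype.val hk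
    have hAN : A ≤ normalizer (invCent u : Set G) := by
      rintro _ ⟨c, -, rfl⟩
      exact hNM' (c : N').2
    have hcopA : (Nat.card A).Coprime (Nat.card (invCent u)) :=
      H.coprime_card hu H.base.qq H.base.q2 fun a => ⟨1, by rw [pow_one]; exact hAq a⟩
    have hgen := Cfsg.Agent.S0058.result A (invCent u) hnc hAN hcopA
    have hbot : (⨆ a ∈ {a : G | a ∈ A ∧ a ≠ 1}, invCent u ⊓ centralizer {a}) = ⊥ := by
      refine eq_bot_iff.2 (iSup₂_le fun a ha => fun c hc => mem_bot.2 ?_)
      obtain ⟨⟨d, hd, rfl⟩, ha1⟩ := ha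
      exact H.q_fix hu (hYq' d fun e => ha1 (by rw [e, map_one])) hc.1
        (mem_centralizer_singleton_iff.1 hc.2).symm
    rw [hbot] at hgen
    exact H.base.ne_one_of_two hu (mem_bot.1 (hgen ▸ H.self_mem hu))
  -- the action on the layer modulo `invCent u`
  haveI hTn : ((invCent u).subgroupOf M).Normal := normal_in_normalizer
  haveI : (N'.subgroupOf M).Normal := (normal_subgroupOf_iff_le_normalizer hNM').2 hMN'
  let π : M →* M ⧸ (invCent u).subgroupOf M := QuotientGroup.mk' _
  let Nb : Subgroup (M ⧸ (invCent u).subgroupOf M) := (N'.subgroupOf M).map π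
  haveI : Nb.Normal := Subgroup.Normal.map inferInstance π (QuotientGroup.mk'_surjective _)
  let f : N' →* Nb := (π.comp (Subgroup.inclusion hNM')).codRestrict Nb fun g =>
    ⟨⟨g, hNM' g.2⟩, g.2, rfl⟩
  have hf : Function.Surjective f := by
    rintro ⟨_, g, hg, rfl⟩
    exact ⟨⟨g, hg⟩, rfl⟩
  have hπ : ∀ g : M, π g = 1 ↔ (g : G) ∈ invCent u := fun g => QuotientGroup.eq_one_iff g
  have hNbp : IsPGroup q Nb := fun g => by
    obtain ⟨g, rfl⟩ := hf g
    refine ⟨1, ?_⟩
    rw [pow_one, ← map_pow]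
    exact Subtype.ext ((hπ _).2 (hCT _ (hNq' g g.2)))
  haveI hNbc : IsCyclic Nb := by
    have h2 : ((Y.mapSurjective hf : Sylow q Nb) : Subgroup Nb) = ⊤ :=
      ((Y.mapSurjective hf).is_maximal' (hNbp.to_subgroup ⊤) le_top).symm
    refine isCyclic_of_surjective (f.comp (Y : Subgroup N').subtype) fun g => ?_
    obtain ⟨c, hc, rfl⟩ := (show g ∈ ((Y : Subgroup N').map f) by
      rw [← Sylow.coe_mapSurjective hf Y, h2]; exact mem_top g)
    exact ⟨⟨c, hc⟩, rfl⟩
  have hyb : orderOf (f ⟨y, hyN⟩) = q := orderOf_eq_prime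
    (by rw [← map_pow, show (⟨y, hyN⟩ : N') ^ q = 1 from
      Subtype.ext (hy ▸ pow_orderOf_eq_one y), map_one])
    fun e => H.base.qq.ne_one (by
      have h2 : y * y = 1 := ((H.mem_iff hu).1 ((hπ ⟨y, hNM' hyN⟩).1 (congrArg Subtype.val e))).1
      have h3 := hy ▸ orderOf_dvd_of_pow_eq_one (show y ^ 2 = 1 by rw [pow_two]; exact h2)
      exact absurd ((Nat.prime_dvd_prime_iff_eq H.base.qq Nat.prime_two).1 h3) H.base.q2)
  have hcard : Nat.card Nb = q := by
    obtain ⟨g, hg⟩ := hNbc.exists_ofOrder_eq_natCard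
    refine (Nat.prime_dvd_prime_iff_eq (p := q) H.base.qq ?_).1 ?_ |>.symm
    · rw [← hg]
      have h1 : g ^ q = 1 := by
        obtain ⟨c, rfl⟩ := hf g
        rw [← map_pow]
        exact Subtype.ext ((hπ _).2 (hCT _ (hNq' c c.2)))
      rcases (Nat.dvd_prime H.base.qq).1 (orderOf_dvd_of_pow_eq_one h1) with e | e
      · exfalso
        have := hyb ▸ orderOf_dvd_natCard (f ⟨y, hyN⟩)
        rw [← hg, e] at this
        exact H.base.qq.not_dvd_one this
      · exact e ▸ H.base.qq
    · exact hyb ▸ orderOf_dvd_natCard _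
  haveI : IsCyclic (MulAut Nb) := by
    haveI : IsCyclic (ZMod (Nat.card Nb))ˣ := by rw [hcard]; infer_instance
    exact isCyclic_of_surjective (IsCyclic.mulAutMulEquiv Nb).symm.toMonoidHom
      (IsCyclic.mulAutMulEquiv Nb).symm.surjective
  let θ : M →* MulAut Nb := MulAut.conjNormal.comp π
  have hkey : ∀ g : M, (g : G) ^ p = 1 → θ g = 1 → (g : G) = 1 := by
    intro g hg hθ
    by_contra hg1
    have hc : Commute (π g) (f ⟨y, hyN⟩ : M ⧸ (invCent u).subgroupOf M) := by
      have h1 := congrArg (fun a : MulAut Nb => ((a (f ⟨y, hyN⟩) : Nb) : M ⧸ (invCent u).subgroupOf M)) hθ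
      simp only [θ, MonoidHom.coe_comp, Function.comp_apply, MulAut.conjNormal_apply,
        MulAut.one_apply] at h1
      exact mul_inv_eq_iff_eq_mul.1 h1
    have hpg : orderOf (π g) = p := orderOf_eq_prime (by
        rw [← map_pow, show g ^ p = 1 from Subtype.ext hg, map_one]) fun e => by
      have h2 := ((H.mem_iff hu).1 ((hπ g).1 e)).1
      rw [← pow_two] at h2
      exact hg1 (by simpa [(Nat.coprime_primes Nat.prime_two H.base.pp).2 H.base.p2.symm]
        using pow_gcd_eq_one.2 ⟨h2, hg⟩)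
    have ho := hc.orderOf_mul_eq_mul_orderOf_of_coprime (by
      rw [hpg, Subgroup.orderOf_coe, hyb]
      exact (Nat.coprime_primes H.base.pp H.base.qq).2 H.base.pq)
    rw [hpg, Subgroup.orderOf_coe, hyb] at ho
    have hd : p * q ∣ orderOf (g * ⟨y, hNM' hyN⟩ : M) := by
      rw [← ho]
      exact orderOf_map_dvd π (g * ⟨y, hNM' hyN⟩)
    rw [← Subgroup.orderOf_coe] at hd
    have h2 := H.base.pp.two_le
    have h3 := H.base.qq.two_le
    rcases H.base.ord (((g * ⟨y, hNM' hyN⟩ : M)) : G) with e | e | e | e | e <;> rw [e] at hd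
    · have := Nat.le_of_dvd one_pos hd; nlinarith
    · have := Nat.le_of_dvd two_pos hd; nlinarith
    · have := Nat.le_of_dvd H.base.pp.pos hd; nlinarith
    · have := Nat.le_of_dvd H.base.qq.pos hd; nlinarith
    · have h4 := (Nat.mul_dvd_mul_iff_left H.base.pp.pos).1 (mul_comm 2 p ▸ hd)
      exact H.base.q2 ((Nat.prime_dvd_prime_iff_eq H.base.qq Nat.prime_two).1 h4)
  -- the Sylow `p`-subgroup is `⟨x⟩`
  have hCx : ∀ c : G, Commute x c → c ∈ M := fun c hc => H.mem_normalizer_of_commute_p hx hu hux hc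
  have hxM : x ∈ M := hCx x (Commute.refl x)
  have hone : ∀ c : G, Commute x c → c ^ p = 1 → c ∈ zpowers x := by
    intro c hc hcp
    have hθx : orderOf (θ ⟨x, hxM⟩) = p := orderOf_eq_prime
      (by rw [← map_pow, show (⟨x, hxM⟩ : M) ^ p = 1 from Subtype.ext hxp, map_one])
      fun e => hx1 (hkey ⟨x, hxM⟩ hxp e)
    obtain ⟨k, hk⟩ := mem_zpowers_of_cyclic H.base.pp.pos hθx
      (b := θ ⟨c, hCx c hc⟩) (by rw [← map_pow, show (⟨c, hCx c hc⟩ : M) ^ p = 1 from Subtype.ext hcp,
        map_one])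
    refine ⟨k, ?_⟩
    have h2 : θ (⟨x, hxM⟩ ^ (-k) * ⟨c, hCx c hc⟩) = 1 := by
      rw [map_mul, map_zpow, ← hk, zpow_neg, inv_mul_cancel]
    have h3 := hkey _ (by
      simp only [Subgroup.coe_mul, SubgroupClass.coe_zpow]
      rw [(hc.zpow_left (-k)).mul_pow, hcp, mul_one, ← zpow_natCast, ← zpow_mul, mul_comm, zpow_mul,
        zpow_natCast, hxp, one_zpow]) h2
    simp only [Subgroup.coe_mul, zpow_neg] at h3
    exact inv_mul_eq_one.1 h3
  obtain ⟨P, hP⟩ := (IsPGroup.of_card (G := zpowers x) (p := p) (n := 1)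
    (by rw [Nat.card_zpowers, pow_one, hx])).exists_le_sylow
  haveI : Nontrivial (P : Subgroup G) :=
    ⟨⟨x, hP (mem_zpowers x)⟩, 1, fun e => hx1 (congrArg Subtype.val e)⟩
  have hPexp : ∀ c ∈ (P : Subgroup G), c ^ p = 1 := fun c hc => by
    obtain ⟨k, hk⟩ := P.2 ⟨c, hc⟩
    exact H.base.pow_prime_eq_one (k := k) (Or.inl rfl) (congrArg Subtype.val hk)
  haveI := P.2.center_nontrivial
  obtain ⟨z, hz1⟩ := exists_ne (1 : center (P : Subgroup G))
  have hzc : ∀ c ∈ (P : Subgroup G), Commute c ((z : (P : Subgroup G)) : G) := fun c hc =>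
    congrArg Subtype.val (mem_center_iff.1 z.2 ⟨c, hc⟩)
  have hPx : ∀ c ∈ (P : Subgroup G), Commute x c := fun c hc => by
    obtain ⟨k, hk⟩ := hone _ (hzc x (hP (mem_zpowers x))) (hPexp _ (z : (P : Subgroup G)).2)
    simp only at hk
    have hcz : Commute c (x ^ k) := by rw [hk]; exact hzc c hc
    obtain ⟨j, hj⟩ : x ∈ zpowers (x ^ k) := by
      have hne : x ^ k ≠ 1 := fun e => hz1 (Subtype.ext (Subtype.ext (hk.symm.trans e)))
      have hkp : orderOf (x ^ k) = p := orderOf_eq_prime (by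
        rw [← zpow_natCast, ← zpow_mul, mul_comm, zpow_mul, zpow_natCast, hxp, one_zpow]) hne
      have heq : zpowers (x ^ k) = zpowers x := Subgroup.eq_of_le_of_card_ge
        (zpowers_le.2 (zpow_mem (mem_zpowers x) k)) (by rw [Nat.card_zpowers, Nat.card_zpowers, hkp, hx])
      rw [heq]; exact mem_zpowers x
    simp only at hj
    have h6 := hcz.zpow_right j
    rw [hj] at h6
    exact h6.symm
  have hPeq : (P : Subgroup G) = zpowers x :=
    le_antisymm (fun c hc => hone c (hPx c hc) (hPexp c hc)) hP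
  have hNC : normalizer ((P : Subgroup G) : Set G) ≤ centralizer ((P : Subgroup G) : Set G) := by
    intro g hg
    obtain ⟨k, hk⟩ : g * x * g⁻¹ ∈ zpowers x :=
      hPeq ▸ (mem_normalizer_iff.1 hg x).1 (hP (mem_zpowers x))
    simp only at hk
    have hgM : g ∈ M := by
      refine H.mem_normalizer_of_conj hu ((H.mem_iff hu).2 ?_)
      have h1 : (g * u * g⁻¹) * (g * u * g⁻¹) = 1 := by
        rw [← pow_two, ← H.orderOf_conj hu g, pow_orderOf_eq_one]
      refine ⟨h1, H.comm_invols_p hx hu h1 hux ?_⟩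
      have h2 : Commute (g * u * g⁻¹) (g * x * g⁻¹) := hux.map (MulAut.conj g)
      have h3 : x ∈ zpowers (g * x * g⁻¹) := by
        rw [Subgroup.eq_of_le_of_card_ge (zpowers_le.2 (hk ▸ zpow_mem (mem_zpowers x) k))
          (by rw [Nat.card_zpowers, Nat.card_zpowers]; exact ((MulAut.conj g).orderOf_eq x).ge)]
        exact mem_zpowers x
      obtain ⟨j, hj⟩ := h3
      exact hj ▸ h2.zpow_right j
    have h4 : g * x * g⁻¹ * x⁻¹ = 1 := hkey (⟨g, hgM⟩ * ⟨x, hxM⟩ * ⟨g, hgM⟩⁻¹ * ⟨x, hxM⟩⁻¹)
      (hPexp _ (mul_mem ((mem_normalizer_iff.1 hg x).1 (hP (mem_zpowers x)))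
        (inv_mem (hP (mem_zpowers x)))))
      (by
        letI := IsCyclic.commGroup (α := MulAut Nb)
        simp only [map_mul, map_inv]
        rw [mul_comm (θ ⟨g, hgM⟩), mul_inv_cancel_right, mul_inv_cancel])
    rw [mem_centralizer_iff]
    intro c hc
    obtain ⟨j, rfl⟩ := hPeq ▸ hc
    have hgx : Commute g x := mul_inv_eq_iff_eq_mul.1 (mul_inv_eq_one.1 h4)
    exact (hgx.zpow_right j).eq.symm
  have hc := MonoidHom.ker_transferSylow_isComplement' P hNC
  rcases (MonoidHom.normal_ker (MonoidHom.transferSylow P hNC)).eq_bot_or_eq_top with e | e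
  · rw [e] at hc
    have h5 := Subgroup.isComplement'_bot_left.1 hc
    exact H.not_cyclic hG ⟨⟨x, fun g => show g ∈ zpowers x by rw [← hPeq, h5]; exact mem_top g⟩⟩
  · rw [e] at hc
    exact hx1 (mem_bot.1 (Subgroup.isComplement'_top_left.1 hc ▸ hP (mem_zpowers x)))

end TI

end CfsgLib.FiveAut
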